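import Cfsg.Agent.Lib.FusionP3.Criterion.Top

/-!
Every automorphism of `P` that extends to a subgroup strictly between `P` and `N_S(P)` extends to `top P`.
-/

set_option autoImplicit false
set_option linter.style.haveILetI false
set_option linter.unusedSectionVars false

namespace Cfsg.Agent.Lib.FusionP3.Criterion

open Cfsg Cfsg.FusionSystem Cfsg.Agent.Lib.FS
open Cfsg.Agent.Lib.FusionP3.GT

variable {Ω : Type*} [Group Ω] {S : Subgroup Ω} [Finite S] {p : ℕ} [Fact p.Prime] {F : FusionSystem S}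
variable {n : ℕ} {ℋ : Set (Subgroup Ω)} {P : Subgroup Ω}

/-- A Sylow subgroup covers the image in a `p`-group. -/
theorem exists_mem_sylow_map_eq {G H : Type*} [Group G] [Finite G] [Group H] (f : G →* H)
    (hf : IsPGroup p f.range) (R : Sylow p G) (g : G) : ∃ r ∈ R, f r = f g := by
  have hdvd : ((R : Subgroup G).map f.rangeRestrict).index ∣ (R : Subgroup G).index :=
    Subgroup.index_map_dvd _ f.rangeRestrict_surjective
  have htop : (R : Subgroup G).map f.rangeRestrict = ⊤ := by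
    haveI : Finite f.range := Finite.of_surjective f.rangeRestrict f.rangeRestrict_surjective
    obtain ⟨k, hk⟩ := hf.index ((R : Subgroup G).map f.rangeRestrict)
    rw [← Subgroup.index_eq_one, hk]
    cases k with
    | zero => rfl
    | succ k => exact absurd ((hk ▸ dvd_pow_self p k.succ_ne_zero).trans hdvd) R.not_dvd_index
  obtain ⟨r, hr, he⟩ := htop.ge (Subgroup.mem_top (f.rangeRestrict g))
  exact ⟨r, hr, congrArg Subtype.val he⟩

/-- Outside `R ≤ N_S(P)` some element of `top P` normalises `R`, if `top P` is not in `R`. -/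
theorem exists_top_normalizer (hS : IsPGroup p S) {R : Subgroup Ω} (hP : P ≤ S)
    (hR : R ≤ normalizerIn S P) (h : ¬ top F p P ≤ R) :
    ∃ g ∈ top F p P, g ∉ R ∧ g ∈ normalizerIn S R := by
  have hRT : R ⊔ top F p P ≤ normalizerIn S P := sup_le hR (top_le P)
  have hle : R ≤ Subgroup.normalizer (top F p P : Set Ω) := hR.trans (normalizerIn_le_normalizer_top hP)
  haveI := finite_sub (hRT.trans (normalizerIn_le P))
  have hlt : R < R ⊔ top F p P := lt_of_le_of_ne le_sup_left fun he => h (he ▸ le_sup_right)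
  obtain ⟨x, ⟨hx, hxn⟩, hxR⟩ := SetLike.exists_of_lt
    (FusionP3.Induction.lt_normalizerIn (hS.to_le (hRT.trans (normalizerIn_le P))) hlt)
  obtain ⟨r, hr, t, ht, rfl⟩ :=
    (Subgroup.coe_mul_of_left_le_normalizer_right R (top F p P) hle).le hx
  refine ⟨t, ht, fun htR => hxR (mul_mem hr htR), (normalizerIn_le P) (top_le P ht), ?_⟩
  simpa using mul_mem (inv_mem (Subgroup.le_normalizer hr)) hxn

/-- the stabiliser of `A` in `Aut_F(Q)` inducing `O_p(Aut_F(A))` on `A` -/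
def stabTop (F : FusionSystem S) (p : ℕ) {A Q : Subgroup Ω} (h : A ≤ Q) : Subgroup (MulAut Q) :=
  F.autGroup Q ⊓ ((opAut F p A).comap (res h)).map (preserve A Q).subtype

theorem mem_stabTop {A Q : Subgroup Ω} {h : A ≤ Q} {k : MulAut Q} :
    k ∈ stabTop F p h ↔ k ∈ F.autGroup Q ∧ ∃ hk : k ∈ preserve A Q, res h ⟨k, hk⟩ ∈ opAut F p A := by
  constructor
  · rintro ⟨h1, ⟨k', hk'⟩, hk, rfl⟩; exact ⟨h1, hk', hk⟩
  · rintro ⟨h1, hk', hk⟩; exact ⟨h1, ⟨k, hk'⟩, hk, rfl⟩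

/-- Splitting an element of the stabiliser: a conjugation times an element normalising `T`. -/
theorem exists_split {A Q : Subgroup Ω} (hQS : Q ≤ S) (hS : IsPGroup p S) (hal : Aligned F p A Q)
    {b : MulAut Q} (hb : b ∈ F.autGroup Q) (hbp : b ∈ preserve A Q) :
    ∃ g ∈ normalizerIn S A, ∃ c : MulAut A, (∀ x : A, ((c x : A) : Ω) = g * x * g⁻¹) ∧
      ∃ b' : MulAut Q, b' ∈ F.autGroup Q ∧ ∃ hb' : b' ∈ preserve A Q,
        res hal.1 ⟨b, hbp⟩ = c * res hal.1 ⟨b', hb'⟩ ∧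
        ∀ t ∈ stabTop F p hal.1 ⊓ autInducedBy S Q, b' * t * b'⁻¹ ∈ stabTop F p hal.1 ⊓ autInducedBy S Q := by
  haveI := finite_sub hQS
  haveI := finite_mulAut ↥Q
  have hAS : A ≤ S := hal.1.trans hQS
  set W := stabTop F p hal.1 with hW
  set T := W ⊓ autInducedBy S Q with hT
  have hnorm : ∀ k : MulAut Q, k ∈ F.autGroup Q ⊓ preserve A Q → ∀ w ∈ W, k * w * k⁻¹ ∈ W := by
    intro k hk w hw
    rw [hW, mem_stabTop] at hw ⊢
    obtain ⟨hwa, hwp, hwo⟩ := hw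
    refine ⟨mul_mem (mul_mem hk.1 hwa) (inv_mem hk.1), mul_mem (mul_mem hk.2 hwp) (inv_mem hk.2), ?_⟩
    have h1 := conj_mem_opAut (res_mem_autGroup hal.1 hQS (α := ⟨k, hk.2⟩) hk.1) hwo
    rwa [← map_inv, ← map_mul, ← map_mul] at h1
  have hWK : W ≤ F.autGroup Q ⊓ preserve A Q := fun k hk => by
    rw [hW, mem_stabTop] at hk
    exact ⟨hk.1, hk.2.1⟩
  obtain ⟨R, hR⟩ : ∃ R : Sylow p W, (R : Subgroup W) = T.subgroupOf W := by
    refine exists_sylow_of_catches inf_le_left ((isPGroup_autInducedBy hS Q).to_le inf_le_right) ?_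
    intro T' hT' hT'p
    obtain ⟨a, ha, hat⟩ := hal.2 T' (hT'.trans hWK) hT'p
    exact ⟨a, fun t ht => ⟨hnorm a ha t (hT' ht), hat t ht⟩⟩
  obtain ⟨w, hw, hwT⟩ := exists_conj_le_sylow R hR (T := T.map (MulAut.conj b).toMonoidHom)
    (by rintro _ ⟨t, ht, rfl⟩; exact hnorm b ⟨hb, hbp⟩ t ht.1)
    ((R.isPGroup'.of_equiv ((MulEquiv.subgroupCongr hR).trans
      (Subgroup.subgroupOfEquivOfLe inf_le_left))).map _)
  -- `w⁻¹` acts on `A` like an element of `T`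
  let f : W →* MulAut A := (res hal.1).comp (Subgroup.inclusion (hWK.trans inf_le_right))
  have hf : IsPGroup p f.range := (isPGroup_opAut (F := F) hAS).to_le (by
    rintro _ ⟨⟨k, hk⟩, rfl⟩
    exact (mem_stabTop.1 (hW ▸ hk)).2.2)
  obtain ⟨r, hr, hrw⟩ := exists_mem_sylow_map_eq f hf R ⟨w⁻¹, inv_mem hw⟩
  have hrT : (r : MulAut Q) ∈ T := Subgroup.mem_subgroupOf.1 (hR ▸ hr)
  obtain ⟨g, hg, hge⟩ := mem_autInducedBy.1 hrT.2
  have hc : ∀ x : A, ((f r x : A) : Ω) = g * x * g⁻¹ := fun x => hge _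
  refine ⟨g, ⟨hg, mem_normalizer_of_aut hc⟩, f r, hc, w * b, mul_mem (hWK hw).1 hb,
    mul_mem (hWK hw).2 hbp, ?_, fun t ht => ?_⟩
  · rw [hrw]
    show res hal.1 _ = res hal.1 _ * res hal.1 _
    rw [← map_mul]
    congr 1
    exact Subtype.ext (show b = w⁻¹ * (w * b) by group)
  · have h1 := hwT _ ⟨t, ht, rfl⟩
    simp only [MulEquiv.coe_toMonoidHom, MulAut.conj_apply] at h1
    rwa [show w * b * t * (w * b)⁻¹ = w * (b * t * b⁻¹) * w⁻¹ by group]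

/-- What `Claim` says for subgroups of order at least `m`. -/
def Claimed (F : FusionSystem S) (P T : Subgroup Ω) (hPT : P ≤ T) (m : ℕ) : Prop :=
  ∀ R : Subgroup Ω, P < R → R ≤ normalizerIn S P → m ≤ Nat.card R → ∀ ψ ∈ F.Hom R, ∀ a : MulAut P,
    (∀ (x : P) (hx : (x : Ω) ∈ R), ψ ⟨x, hx⟩ = a x) → a ∈ extAut F P T hPT

/-- A map between two conjugates of `P` defined beyond them induces an element of `extAut`. -/
theorem Setup.step (h : Setup F p n ℋ P) {m : ℕ} (hC : Claimed F P (top F p P) h.lt_top.le m)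
    {A B D : Subgroup Ω} {eA : A ≃* P} {eB : B ≃* P} (hA : FullEquiv F eA) (hB : FullEquiv F eB)
    (f : A ≃* B) {δ : D →* Ω} (hδ : δ ∈ F.Hom D) (hAD : A < D) (hDN : D ≤ normalizerIn S A)
    (hm : m ≤ Nat.card D) (hf : ∀ (x : A) (hx : (x : Ω) ∈ D), δ ⟨x, hx⟩ = f x) :
    (eA.symm.trans (f.trans eB) : MulAut P) ∈ extAut F P (top F p P) h.lt_top.le := by
  obtain ⟨θA, hθA, hθAe⟩ := hA
  obtain ⟨θB, hθB, hθBe⟩ := hB
  have hAS : A ≤ S := hAD.le.trans (src_le hδ)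
  have hmapA := map_eq_of_equiv (le_normalizerIn hAS) eA hθAe
  haveI := finite_sub (src_le hδ)
  obtain ⟨ρ, hρ, hρe⟩ := exists_restrict hθA hDN
  obtain ⟨η, hη, hηr, hηl, -⟩ := exists_inv hρ rfl
  have hmapD := map_eq_of_equiv hAD.le f hf
  obtain ⟨χ₁, hχ₁, hχ₁e⟩ := exists_comp hη hδ fun y => hηr.le ⟨y, rfl⟩
  have hBS : B ≤ S := by rw [← hmapD]; rintro _ ⟨x, -, rfl⟩; exact apply_mem hδ x
  haveI := finite_sub hBS
  obtain ⟨χ, hχ, hχe⟩ := exists_comp hχ₁ hθB fun y => by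
    rw [hχ₁e]
    exact apply_mem_normalizerIn hδ hAD.le hmapD _ (hDN (hηr.le ⟨y, rfl⟩)).2
  have hPle : P ≤ ρ.range := fun y hy => by
    refine ⟨⟨(eA.symm ⟨y, hy⟩ : A), hAD.le (eA.symm ⟨y, hy⟩).2⟩, ?_⟩
    rw [hρe, hθAe, eA.apply_symm_apply]
  refine hC ρ.range (lt_of_le_of_ne hPle fun he => hAD.ne ?_) ?_ (by rwa [card_range hρ]) χ hχ _ ?_
  · have h1 := congrArg (fun X : Subgroup Ω => Nat.card X) he
    simp only [card_range hρ, ← Nat.card_congr eA.toEquiv] at h1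
    exact Subgroup.eq_of_le_of_card_ge hAD.le h1.ge
  · rintro _ ⟨x, rfl⟩
    rw [hρe]
    exact apply_mem_normalizer hAS hθA hmapA _
  · intro x hx
    have hv : ρ ⟨(eA.symm x : A), hAD.le (eA.symm x).2⟩ = (x : Ω) := by
      rw [hρe, hθAe, eA.apply_symm_apply]
    have hxe : (⟨x, hx⟩ : ρ.range) =
        ⟨ρ ⟨(eA.symm x : A), hAD.le (eA.symm x).2⟩, _, rfl⟩ := Subtype.ext hv.symm
    have h2 : χ₁ ⟨x, hx⟩ = f (eA.symm x) := by
      rw [hχ₁e, ← hf (eA.symm x) (hAD.le (eA.symm x).2)]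
      refine congrArg δ (Subtype.ext ?_)
      exact (congrArg η hxe).trans (hηl _ _)
    rw [hχe]
    refine Eq.trans ?_ (hθBe (f (eA.symm x)) (le_normalizerIn hBS (f (eA.symm x)).2))
    exact congrArg θB (Subtype.ext h2)

theorem fullEquiv_refl (_hP : P ≤ S) : FullEquiv F (MulEquiv.refl P) :=
  ⟨(normalizerIn S P).subtype, subtype_mem F (normalizerIn_le P), fun _ _ => rfl⟩

theorem Setup.claimed (h : Setup F p n ℋ P) : Claimed F P (top F p P) h.lt_top.le 0 := by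
  suffices key : ∀ d m : ℕ, Nat.card S - m ≤ d → Claimed F P (top F p P) h.lt_top.le m from
    key _ 0 le_rfl
  intro d
  induction d with
  | zero =>
    intro m hm R hPR hRN hmR ψ hψ a ha
    have hR : R = S := by
      refine Subgroup.eq_of_le_of_card_ge (src_le hψ) ?_
      omega
    exact h.mem_extAut ((top_le P).trans ((normalizerIn_le P).trans hR.ge)) hψ ha
  | succ d ih =>
    intro m hm R hPR hRN hmR ψ hψ a ha
    by_cases hTR : top F p P ≤ R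
    · exact h.mem_extAut hTR hψ ha
    have hS := h.pGroup
    have hPS := h.le
    haveI := finite_sub hPS
    have hR := src_le hψ
    haveI := finite_sub hR
    set R' := ψ.range with hR'
    have hmap := map_eq_of_equiv hPR.le a ha
    have hR'N : R' ≤ normalizerIn S P := by
      rintro _ ⟨x, rfl⟩
      exact apply_mem_normalizerIn hψ hPR.le hmap x (hRN x.2).2
    obtain ⟨η, hη, hηr, hηl, -⟩ := exists_inv hψ hR'.symm
    have hPR' : P ≤ R' := fun y hy => ⟨⟨(a.symm ⟨y, hy⟩ : P), hPR.le (a.symm ⟨y, hy⟩).2⟩, by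
      rw [ha, MulEquiv.apply_symm_apply]⟩
    have hηa : ∀ (x : P) (hx : (x : Ω) ∈ R'), η ⟨x, hx⟩ = (a⁻¹ x : P) := fun x hx => by
      have hv : ψ ⟨(a⁻¹ x : P), hPR.le (a⁻¹ x).2⟩ = (x : Ω) := by rw [ha, MulAut.apply_inv_self]
      exact (congrArg η (Subtype.ext hv.symm : (⟨x, hx⟩ : R') = ⟨_, _, rfl⟩)).trans (hηl _ _)
    by_cases hTR' : top F p P ≤ R'
    · simpa using inv_mem (h.mem_extAut hTR' hη hηa)
    -- an aligned conjugate `Q` of `R`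
    have hcR : n < Nat.card R := by
      rw [← h.card_eq]; exact lt_of_not_ge fun he => hPR.ne (Subgroup.eq_of_le_of_card_ge hPR.le he)
    obtain ⟨Q, ⟨γ₀, hγ₀, hγ₀r⟩, hQa, hQr⟩ := h.big R hR hcR
    haveI := finite_sub hQa.1
    obtain ⟨a₀, ha₀, A, hal, hmem⟩ := exists_aligned hQa
      ((Subgroup.map_le_range γ₀ (P.subgroupOf R)).trans hγ₀r.le)
    obtain ⟨τ, hτ, hτr, hτa⟩ := exists_hom_of_aut hQa.1 ha₀
    obtain ⟨γ, hγ, hγe⟩ := exists_comp hγ₀ hτ fun x => hγ₀r.le ⟨x, rfl⟩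
    have hγr : γ.range = Q := range_eq_of_mem hγ
      (fun x => by rw [hγe, hτa]; exact SetLike.coe_mem _) (isConj_card ⟨γ₀, hγ₀, hγ₀r⟩).le
    have hγP : ∀ x : R, (x : Ω) ∈ P ↔ γ x ∈ A := by
      intro x
      rw [hγe, hτa, ← hmem]
      exact ((map_eq_iff hPR.le hγ₀).1 rfl).1 x
    have hγQ : ∀ x : R, γ x ∈ Q := fun x => hγr.le ⟨x, rfl⟩
    obtain ⟨γ', hγ', hγ'e⟩ := exists_comp hη hγ fun y => hηr.le ⟨y, rfl⟩
    have hγ'r : γ'.range = Q := range_eq_of_mem hγ' (fun y => by rw [hγ'e]; exact hγQ _)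
      (by rw [isConj_card ⟨γ, hγ, hγr⟩, card_range hψ])
    have hγ'P : ∀ y : R', (y : Ω) ∈ P ↔ γ' y ∈ A := by
      intro y
      rw [hγ'e, ← hγP]
      obtain ⟨_, x, rfl⟩ := y
      show _ ↔ η _ ∈ P
      rw [hηl x ⟨x, rfl⟩]
      exact (((map_eq_iff hPR.le hψ).1 hmap).1 x).symm
    have hγ'ψ : ∀ x : R, γ' ⟨ψ x, x, rfl⟩ = γ x := fun x => by
      rw [hγ'e]
      exact congrArg γ (Subtype.ext (hηl x _))
    have hγA : (P.subgroupOf R).map γ = A :=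
      (map_eq_iff hPR.le hγ).2 ⟨hγP, hal.1.trans hγr.ge⟩
    have hAP : F.IsConj A P := by
      obtain ⟨γP, hγPm, hγPe⟩ := exists_restrict hγ hPR.le
      refine isConj_symm ⟨γP, hγPm, ?_⟩
      ext y
      rw [← hγA]
      constructor
      · rintro ⟨x, rfl⟩; rw [hγPe]; exact ⟨_, x.2, rfl⟩
      · rintro ⟨x, hx, rfl⟩; exact ⟨⟨x, hx⟩, hγPe _⟩
    have hAS : A ≤ S := isConj_le_left hAP
    obtain ⟨eQ, heQ⟩ := exists_fullEquiv hAS (h.full hAP)
    -- extensions of `γ` and `γ'`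
    set D₁ := normalizerIn S R ⊓ normalizerIn S P with hD₁def
    set D₂ := normalizerIn S R' ⊓ normalizerIn S P with hD₂def
    obtain ⟨b₁, hb₁, ξ₁, hξ₁, hξ₁e⟩ : ∃ b ∈ F.autGroup Q ⊓ preserve A Q, ∃ ξ ∈ F.Hom D₁,
        ∀ (x : R) (hx : (x : Ω) ∈ D₁) (hy : γ x ∈ Q), ξ ⟨x, hx⟩ = (b ⟨γ x, hy⟩ : Q) :=
      extend_to_aligned hS hQr hal hγ hγr hγP
    obtain ⟨b₂, hb₂, ξ₂, hξ₂, hξ₂e⟩ : ∃ b ∈ F.autGroup Q ⊓ preserve A Q, ∃ ξ ∈ F.Hom D₂,
        ∀ (x : R') (hx : (x : Ω) ∈ D₂) (hy : γ' x ∈ Q), ξ ⟨x, hx⟩ = (b ⟨γ' x, hy⟩ : Q) :=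
      extend_to_aligned hS hQr hal hγ' hγ'r hγ'P
    have hRD₁ : R ≤ D₁ := le_inf (le_normalizerIn hR) hRN
    have hR'D₂ : R' ≤ D₂ := le_inf (le_normalizerIn (range_le_base hψ)) hR'N
    have hξ₁r : ∀ x : R, ξ₁ ⟨x, hRD₁ x.2⟩ = (b₁ ⟨γ x, hγQ x⟩ : Q) := fun x => hξ₁e x _ _
    have hξ₁P : (P.subgroupOf D₁).map ξ₁ = A := by
      ext y
      constructor
      · rintro ⟨x, hx, rfl⟩
        rw [show x = ⟨((⟨x, hPR.le hx⟩ : R) : Ω), x.2⟩ from rfl, hξ₁r ⟨x, hPR.le hx⟩]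
        exact (hb₁.2 _).1 ((hγP ⟨x, hPR.le hx⟩).1 hx)
      · intro hy
        obtain ⟨v, hv⟩ := hγr.ge (b₁⁻¹ ⟨y, hal.1 hy⟩ : Q).2
        have hv' : (⟨γ v, hγQ v⟩ : Q) = b₁⁻¹ ⟨y, hal.1 hy⟩ := Subtype.ext hv
        refine ⟨⟨v, hRD₁ v.2⟩, (hγP v).2 ((hb₁.2 ⟨γ v, hγQ v⟩).2 ?_), ?_⟩
        · rw [hv', MulAut.apply_inv_self]; exact hy
        · rw [hξ₁r, hv', MulAut.apply_inv_self]
    haveI := finite_sub (inf_le_left.trans (normalizerIn_le R) : D₁ ≤ S)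
    haveI := finite_sub (inf_le_left.trans (normalizerIn_le R') : D₂ ≤ S)
    obtain ⟨r₀, hr₀T, hr₀R, hr₀N⟩ := exists_top_normalizer hS hPS hRN hTR
    obtain ⟨r₀', hr₀T', hr₀R', hr₀N'⟩ := exists_top_normalizer hS hPS hR'N hTR'
    have hr₀D : r₀ ∈ D₁ := ⟨hr₀N, top_le P hr₀T⟩
    have hD₁ : Nat.card R < Nat.card D₁ := lt_of_not_ge fun he =>
      hr₀R (Subgroup.eq_of_le_of_card_ge hRD₁ he ▸ hr₀D)
    have hD₂ : Nat.card R < Nat.card D₂ := by
      rw [← card_range hψ]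
      exact lt_of_not_ge fun he =>
        hr₀R' (Subgroup.eq_of_le_of_card_ge hR'D₂ he ▸ (⟨hr₀N', top_le P hr₀T'⟩ : r₀' ∈ D₂))
    have hC : Claimed F P (top F p P) h.lt_top.le (Nat.card R + 1) := ih _ (by omega)
    -- the induced isomorphisms `P ≃* A`
    obtain ⟨φ₁, hφ₁, hφ₁e⟩ := exists_restrict hξ₁ (hPR.le.trans hRD₁)
    have hφ₁r : φ₁.range = A := by
      ext y
      rw [← hξ₁P]
      constructor
      · rintro ⟨x, rfl⟩; rw [hφ₁e]; exact ⟨_, x.2, rfl⟩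
      · rintro ⟨x, hx, rfl⟩; exact ⟨⟨x, hx⟩, hφ₁e _⟩
    set f₁ := homEquiv hφ₁ hφ₁r
    have ha₁ := h.step hC (fullEquiv_refl hPS) heQ f₁ hξ₁ (hPR.trans_le hRD₁) inf_le_right hD₁
      (fun x hx => (hφ₁e x).symm)
    obtain ⟨bb, hbb, hbbp, hbb'⟩ : ∃ bb : MulAut Q, bb ∈ F.autGroup Q ∧ ∃ hbbp : bb ∈ preserve A Q,
        ∀ (x : P) (hx : ((a x : P) : Ω) ∈ D₂),
          ξ₂ ⟨(a x : P), hx⟩ = (res hal.1 ⟨bb, hbbp⟩ (f₁ x) : A) := by
      refine ⟨b₂ * b₁⁻¹, mul_mem hb₂.1 (inv_mem hb₁.1), mul_mem hb₂.2 (inv_mem hb₁.2), fun x hx => ?_⟩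
      have hx' : ((a x : P) : Ω) ∈ R' := hPR' (a x).2
      rw [hξ₂e ⟨(a x : P), hx'⟩ hx (hγ'r.le ⟨_, rfl⟩), res_coe, MulAut.mul_apply]
      refine congrArg (fun z => ((b₂ z : Q) : Ω)) (b₁.injective ?_)
      rw [MulAut.apply_inv_self]
      apply Subtype.ext
      show ((b₁ _ : Q) : Ω) = φ₁ x
      rw [hφ₁e, show (⟨(x : Ω), (hPR.le.trans hRD₁) x.2⟩ : D₁) =
        ⟨((⟨x, hPR.le x.2⟩ : R) : Ω), hRD₁ (hPR.le x.2)⟩ from rfl, hξ₁r]
      refine congrArg (fun z => ((b₁ z : Q) : Ω)) (Subtype.ext ?_)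
      exact (congrArg γ' (Subtype.ext (ha x (hPR.le x.2)).symm)).trans (hγ'ψ ⟨x, hPR.le x.2⟩)
    set β : MulAut A := res hal.1 ⟨bb, hbbp⟩ with hβ
    have ha₂ := h.step hC (fullEquiv_refl hPS) heQ ((a⁻¹ : MulAut P).trans (f₁.trans β)) hξ₂
      (lt_of_lt_of_le (lt_of_le_of_ne hPR' fun he => by
        have h1 := congrArg (fun X : Subgroup Ω => Nat.card X) he
        simp only [hR', card_range hψ, h.card_eq] at h1
        omega) hR'D₂) inf_le_right hD₂ (fun x hx => by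
        obtain ⟨z, rfl⟩ := a.surjective x
        rw [hbb' z hx]
        simp [hβ])
    -- `β` itself
    have hξN : ∀ x : D₁, ξ₁ x ∈ normalizerIn S A := fun x => by
      haveI := finite_sub hAS
      exact apply_mem_normalizerIn hξ₁ (hPR.le.trans hRD₁) hξ₁P x x.2.2.2
    haveI := finite_sub (normalizerIn_le (S := S) A)
    have hNA : Nat.card R + 1 ≤ Nat.card (normalizerIn S A) := hD₁.trans_le (card_le_of_hom hξ₁ hξN)
    obtain ⟨g, hg, c, hc, b', hb'a, hb'p, hsplit, hb'n⟩ := exists_split hQa.1 hS hal hbb hbbp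
    have hcA : Nat.card A = n := (isConj_card hAP).symm.trans h.card_eq
    have hβc : (eQ.symm.trans (c.trans eQ) : MulAut P) ∈ extAut F P (top F p P) h.lt_top.le :=
      h.step hC heQ heQ c (F.conj_mem (normalizerIn_le A) hg.1)
        (lt_of_le_of_ne (le_normalizerIn hAS) fun he => by rw [← he, hcA] at hNA; omega) le_rfl hNA
        (fun x hx => (hc x).symm)
    have hinnQ : Inn Q ≤ preserve A Q := by
      rintro _ ⟨q, rfl⟩ x
      obtain ⟨v, hv⟩ := hγr.ge (b₁⁻¹ q : Q).2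
      have hq : (q : Ω) ∈ normalizerIn S A := by
        have h1 := hξN ⟨v, hRD₁ v.2⟩
        rwa [hξ₁r, show (⟨γ v, hγQ v⟩ : Q) = b₁⁻¹ q from Subtype.ext hv, MulAut.apply_inv_self] at h1
      exact Subgroup.mem_normalizer_iff.1 hq.2 x
    set T := stabTop F p hal.1 ⊓ autInducedBy S Q with hT
    set W := T ⊔ Inn Q with hWdef
    have hWS : W ≤ autInducedBy S Q := sup_le inf_le_right (inn_le_autInducedBy hQa.1)
    have hWp : W ≤ preserve A Q := sup_le (fun k hk => (mem_stabTop.1 hk.1).2.1) hinnQ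
    have hWn : W.map (MulAut.conj b').toMonoidHom ≤ W := by
      rw [hWdef, Subgroup.map_sup]
      refine sup_le_sup ?_ ?_
      · rintro _ ⟨t, ht, rfl⟩; exact hb'n t ht
      · rintro _ ⟨_, ⟨q, rfl⟩, rfl⟩
        exact ⟨b' q, MulEquiv.ext fun x => by simp [MulAut.mul_apply, MulAut.conj_apply]⟩
    set D := FusionP3.Induction.preimageAut S Q W with hDdef
    obtain ⟨δ, hδ, hδe⟩ : ∃ δ ∈ F.Hom D, ∀ (x : Ω) (hx : x ∈ Q) (hxR : x ∈ D),
        δ ⟨x, hxR⟩ = ((b' ⟨x, hx⟩ : Q) : Ω) :=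
      FusionP3.Induction.exists_extend_preimage hQr hWS hb'a fun w hw => hWn ⟨w, hw, rfl⟩
    have hQD : Q ≤ D := FusionP3.Induction.le_preimageAut hQa.1 le_sup_right
    have hDA : D ≤ normalizerIn S A := by
      rintro d ⟨hd, w, hw, hwd⟩
      haveI := finite_sub hAS
      refine ⟨hd.1, mem_normalizer_of_conj_mem fun x hx => ?_⟩
      rw [← hwd ⟨x, hal.1 hx⟩]
      exact (hWp hw _).1 hx
    have hD : Nat.card R < Nat.card D := by
      rw [← isConj_card ⟨γ, hγ, hγr⟩]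
      haveI := finite_sub (src_le hδ)
      refine lt_of_not_ge fun he => ?_
      have hg₀S := apply_mem hξ₁ ⟨r₀, hr₀D⟩
      set g₀ := ξ₁ ⟨r₀, hr₀D⟩ with hg₀
      have hg₀N : g₀ ∈ normalizerIn S Q := by
        refine apply_mem_normalizerIn hξ₁ hRD₁ ?_ _ hr₀N.2
        ext y
        constructor
        · rintro ⟨x, hx, rfl⟩
          rw [show x = ⟨((⟨x, hx⟩ : R) : Ω), x.2⟩ from rfl, hξ₁r ⟨x, hx⟩]
          exact SetLike.coe_mem _
        · intro hy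
          obtain ⟨v, hv⟩ := hγr.ge (b₁⁻¹ ⟨y, hy⟩ : Q).2
          exact ⟨⟨v, hRD₁ v.2⟩, v.2, by
            rw [hξ₁r, show (⟨γ v, hγQ v⟩ : Q) = b₁⁻¹ ⟨y, hy⟩ from Subtype.ext hv, MulAut.apply_inv_self]⟩
      obtain ⟨-, w, hw, hwe⟩ :=
        (apply_mem_top_iff (hPR.le.trans hRD₁) hξ₁ hξ₁P ⟨r₀, hr₀D⟩ (top_le P hr₀T).2).2 hr₀T
      set k : MulAut Q := Q.normalizerMonoidHom ⟨g₀, hg₀N.2⟩
      have hkS : k ∈ autInducedBy S Q := mem_autInducedBy.2 ⟨g₀, hg₀S, fun _ => rfl⟩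
      have hkp : k ∈ preserve A Q := fun x => Subgroup.mem_normalizer_iff.1 (hξN ⟨r₀, hr₀D⟩).2 x
      have hkW : k ∈ W := Subgroup.mem_sup_left ⟨mem_stabTop.2 ⟨autInducedBy_le_autGroup F hQa.1 hkS, hkp, by
        convert hw using 1
        exact MulEquiv.ext fun x => Subtype.ext (hwe x).symm⟩, hkS⟩
      have hgD : g₀ ∈ D := ⟨hg₀N, k, hkW, fun _ => rfl⟩
      rw [← Subgroup.eq_of_le_of_card_ge hQD he] at hgD
      obtain ⟨v, hv⟩ := hγr.ge (b₁⁻¹ ⟨g₀, hgD⟩ : Q).2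
      have h1 : ξ₁ ⟨v, hRD₁ v.2⟩ = g₀ := by
        rw [hξ₁r, show (⟨γ v, hγQ v⟩ : Q) = b₁⁻¹ ⟨g₀, hgD⟩ from Subtype.ext hv, MulAut.apply_inv_self]
      have h2 : (v : Ω) = r₀ := congrArg Subtype.val (F.injective_of_mem hξ₁ (h1.trans hg₀))
      exact hr₀R (h2 ▸ v.2)
    have hβb : (eQ.symm.trans ((res hal.1 ⟨b', hb'p⟩).trans eQ) : MulAut P) ∈
        extAut F P (top F p P) h.lt_top.le :=
      h.step hC heQ heQ (res hal.1 ⟨b', hb'p⟩) hδ
        (lt_of_le_of_ne (hal.1.trans hQD) fun he => by rw [← he, hcA] at hD; omega) hDA (Nat.succ_le_of_lt hD)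
        (fun x hx => hδe x (hal.1 x.2) hx)
    have key : a = ((MulEquiv.refl P).symm.trans (((a⁻¹ : MulAut P).trans (f₁.trans β)).trans eQ) : MulAut P)⁻¹ *
        ((eQ.symm.trans (c.trans eQ) : MulAut P) * (eQ.symm.trans ((res hal.1 ⟨b', hb'p⟩).trans eQ))) *
        ((MulEquiv.refl P).symm.trans (f₁.trans eQ)) := by
      rw [mul_assoc, eq_inv_mul_iff_mul_eq]
      refine MulEquiv.ext fun x => ?_
      show eQ (β (f₁ (a⁻¹ (a x)))) =
        eQ (c (eQ.symm (eQ ((res hal.1 ⟨b', hb'p⟩) (eQ.symm (eQ (f₁ x)))))))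
      rw [MulAut.inv_apply_self, MulEquiv.symm_apply_apply, MulEquiv.symm_apply_apply, hβ, hsplit]
      rfl
    rw [key]
    exact mul_mem (mul_mem (inv_mem ha₂) (mul_mem hβc hβb)) ha₁

end Cfsg.Agent.Lib.FusionP3.Criterion
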