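import Cfsg.Agent.Lib.FusionP3.Criterion.Step
import Cfsg.Agent.Lib.Cores.Basic

/-!
Generated systems, and the connectedness of one conjugacy class by maps on full normalizers.
-/

set_option autoImplicit false
set_option linter.style.haveILetI false
set_option linter.unusedSectionVars false

namespace Cfsg.Agent.Lib.FusionP3.Criterion

open Cfsg Cfsg.FusionSystem Cfsg.Agent.Lib.FS
open Cfsg.Agent.Lib.FusionP3.GT

variable {Ω : Type*} [Group Ω] {S : Subgroup Ω} {F : FusionSystem S}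

/-- composites of restrictions of maps with source in `ℋ`, or with source `S` -/
inductive Gen (F : FusionSystem S) (ℋ : Set (Subgroup Ω)) : ∀ {P : Subgroup Ω}, (P →* Ω) → Prop
  | base {P R : Subgroup Ω} (φ : P →* Ω) (ψ : R →* Ω) : (R ∈ ℋ ∨ R = S) → ψ ∈ F.Hom R →
      (h : P ≤ R) → (∀ x : P, φ x = ψ ⟨x, h x.2⟩) → Gen F ℋ φ
  | comp {P Q : Subgroup Ω} (φ : P →* Ω) (ψ : Q →* Ω) (χ : P →* Ω) : Gen F ℋ φ → Gen F ℋ ψ →
      (h : ∀ x, φ x ∈ Q) → (∀ x, χ x = ψ ⟨φ x, h x⟩) → Gen F ℋ χ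

variable {ℋ : Set (Subgroup Ω)}

theorem Gen.mem {P : Subgroup Ω} {φ : P →* Ω} (h : Gen F ℋ φ) : φ ∈ F.Hom P := by
  induction h with
  | base φ ψ _ hψ hle he => exact mem_of_restrict hψ hle he
  | comp φ ψ χ _ _ hm he ihφ ihψ => exact hom_congr (F.comp_mem ihφ ihψ hm) he

theorem Gen.restrict {P : Subgroup Ω} {φ : P →* Ω} (h : Gen F ℋ φ) :
    ∀ {A : Subgroup Ω} (hA : A ≤ P), Gen F ℋ (φ.comp (Subgroup.inclusion hA)) := by
  induction h with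
  | base φ ψ hR hψ hle he =>
    intro A hA
    exact Gen.base _ ψ hR hψ (hA.trans hle) fun x => he (Subgroup.inclusion hA x)
  | @comp P Q φ ψ χ hgφ hgψ hm he ihφ ihψ =>
    intro A hA
    exact Gen.comp _ ψ _ (ihφ hA) hgψ (fun x => hm _) fun x => he (Subgroup.inclusion hA x)

theorem Gen.inv (hconj : ∀ P ∈ ℋ, ∀ Q, F.IsConj P Q → Q ∈ ℋ) [Finite S] {P : Subgroup Ω} {φ : P →* Ω}
    (h : Gen F ℋ φ) : ∃ η : φ.range →* Ω, Gen F ℋ η ∧ η.range = P ∧ ∀ x : P, η ⟨φ x, x, rfl⟩ = (x : Ω) := by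
  induction h with
  | @base P R φ ψ hR hψ hle he =>
    obtain ⟨η, hη, hηr, hηl, -⟩ := exists_inv hψ rfl
    have hsub : φ.range ≤ ψ.range := by rintro _ ⟨x, rfl⟩; rw [he]; exact ⟨_, rfl⟩
    have hR' : ψ.range ∈ ℋ ∨ ψ.range = S := by
      rcases hR with hR | hR
      · exact Or.inl (hconj R hR _ ⟨ψ, hψ, rfl⟩)
      · refine Or.inr (range_eq_of_mem hψ (apply_mem hψ) ?_)
        rw [hR]
    have hv : ∀ x : P, η (Subgroup.inclusion hsub ⟨φ x, x, rfl⟩) = x := fun x =>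
      (congrArg η (Subtype.ext (he x) :
        Subgroup.inclusion hsub ⟨φ x, x, rfl⟩ = ⟨ψ ⟨x, hle x.2⟩, _, rfl⟩)).trans (hηl ⟨x, hle x.2⟩ _)
    refine ⟨η.comp (Subgroup.inclusion hsub), Gen.base _ η hR' hη hsub fun _ => rfl, ?_, hv⟩
    ext y
    constructor
    · rintro ⟨⟨_, x, rfl⟩, rfl⟩; exact (hv x).symm ▸ x.2
    · exact fun hy => ⟨⟨φ ⟨y, hy⟩, _, rfl⟩, hv ⟨y, hy⟩⟩
  | @comp P Q φ ψ χ hgφ hgψ hm he ihφ ihψ =>
    obtain ⟨ηφ, hηφ, hφr, hφl⟩ := ihφ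
    obtain ⟨ηψ, hηψ, -, hψl⟩ := ihψ
    have hsub : χ.range ≤ ψ.range := by rintro _ ⟨x, rfl⟩; rw [he]; exact ⟨_, rfl⟩
    have hval : ∀ x : P, ηψ (Subgroup.inclusion hsub ⟨χ x, x, rfl⟩) = φ x := fun x => by
      rw [show Subgroup.inclusion hsub ⟨χ x, x, rfl⟩ = ⟨ψ ⟨φ x, hm x⟩, _, rfl⟩ from Subtype.ext (he x),
        hψl]
    have hmem : ∀ z : χ.range, ηψ (Subgroup.inclusion hsub z) ∈ φ.range := by
      rintro ⟨_, x, rfl⟩; rw [hval]; exact ⟨x, rfl⟩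
    let η : χ.range →* Ω := ηφ.comp ((ηψ.comp (Subgroup.inclusion hsub)).codRestrict φ.range hmem)
    have hηx : ∀ x : P, η ⟨χ x, x, rfl⟩ = x := fun x => by
      show ηφ _ = _
      rw [show ((ηψ.comp (Subgroup.inclusion hsub)).codRestrict φ.range hmem) ⟨χ x, x, rfl⟩ =
        ⟨φ x, x, rfl⟩ from Subtype.ext (hval x), hφl]
    refine ⟨η, Gen.comp _ ηφ η (hηψ.restrict hsub) hηφ hmem fun _ => rfl, ?_, hηx⟩
    ext y
    constructor
    · rintro ⟨⟨_, x, rfl⟩, rfl⟩; rw [hηx]; exact x.2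
    · exact fun hy => ⟨⟨χ ⟨y, hy⟩, _, rfl⟩, hηx _⟩

/-- The system generated by the maps with source in `ℋ`. -/
theorem gen_of_generated [Finite S] (hconj : ∀ P ∈ ℋ, ∀ Q, F.IsConj P Q → Q ∈ ℋ)
    (hgen : ∀ E : FusionSystem S, (∀ P ∈ ℋ, F.Hom P ⊆ E.Hom P) → F ≤ E)
    {P : Subgroup Ω} {φ : P →* Ω} (hφ : φ ∈ F.Hom P) : Gen F ℋ φ := by
  let E : FusionSystem S :=
    { Hom := fun P => {φ | Gen F ℋ φ}
      le_of_mem := fun h => F.le_of_mem (Gen.mem h)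
      injective_of_mem := fun h => F.injective_of_mem (Gen.mem h)
      conj_mem := fun {P g} hP hg =>
        Gen.base _ (conjHom S g) (Or.inr rfl) (F.conj_mem le_rfl hg) hP fun _ => rfl
      comp_mem := fun hφ hψ h => Gen.comp _ _ _ hφ hψ h fun _ => rfl
      inv_mem := fun h => by
        obtain ⟨η, hη, -, hl⟩ := Gen.inv hconj h
        exact ⟨η, hη, hl⟩ }
  exact hgen E (fun R hR ψ hψ => Gen.base _ ψ (Or.inl hR) hψ le_rfl fun _ => rfl) P hφ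

variable [Finite S] {p : ℕ} [Fact p.Prime]

theorem Join.trans (hS : IsPGroup p S) {n : ℕ} (hn' : n < Nat.card S)
    (hbig : ∀ R : Subgroup Ω, R ≤ S → n < Nat.card R → ∃ Q, F.IsConj R Q ∧ Good F p Q)
    {A B C : Subgroup Ω} (hA : A ≤ S) (hB : B ≤ S) (hC : C ≤ S) (hn : Nat.card B = n)
    (h₁ : Join F A B) (h₂ : Join F B C) : Join F A C := by
  obtain ⟨C₁, hAC, hBC₁⟩ := h₁
  obtain ⟨C₂, hBC₂, hCC⟩ := h₂
  obtain ⟨θ₁, hθ₁, he₁⟩ := id hBC₁
  obtain ⟨θ₂, hθ₂, he₂⟩ := hBC₂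
  obtain ⟨η, hη, hηr, hηl, -⟩ := exists_inv hθ₁ rfl
  obtain ⟨χ, hχ, hχe⟩ := exists_comp hη hθ₂ fun y => hηr.le ⟨y, rfl⟩
  have hC₁ : C₁ ≤ S := isConj_le_right (hBC₁.le_left hB)
  haveI := finite_sub hC₁
  haveI := finite_sub hB
  have hC₁r : C₁ ≤ θ₁.range := he₁.ge.trans (Subgroup.map_le_range _ _)
  have hcC₁ : Nat.card C₁ = n := (isConj_card (hBC₁.le_left hB)).trans hn
  have hBlt : B < normalizerIn S B := FusionP3.Induction.lt_normalizerIn hS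
    (lt_of_le_of_ne hB fun h => by rw [h] at hn; omega)
  haveI := finite_sub (normalizerIn_le (S := S) B)
  obtain ⟨X, hC₁X, hC₂X⟩ := join_of_step hS hbig hχ hcC₁ hC₁r
    (by rintro _ ⟨x, rfl⟩; exact apply_mem_normalizer hB hθ₁ he₁ x)
    (lt_of_le_of_ne hC₁r fun h => by
      have h1 := congrArg (fun X : Subgroup Ω => Nat.card X) h
      simp only [hcC₁, card_range hθ₁] at h1
      exact hBlt.ne (Subgroup.eq_of_le_of_card_ge hBlt.le (by rw [hn, ← h1])))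
    ((map_eq_iff hC₁r hχ).2 ⟨by
      rintro ⟨_, x, rfl⟩
      rw [hχe]
      rw [show (⟨η ⟨θ₁ x, x, rfl⟩, hηr.le ⟨_, rfl⟩⟩ : normalizerIn S B) = x from Subtype.ext (hηl x _)]
      exact (((map_eq_iff (le_normalizerIn hB) hθ₁).1 he₁).1 x).symm.trans
        (((map_eq_iff (le_normalizerIn hB) hθ₂).1 he₂).1 x), fun y hy => by
      obtain ⟨x, hx⟩ := ((map_eq_iff (le_normalizerIn hB) hθ₂).1 he₂).2 hy
      refine ⟨⟨θ₁ x, x, rfl⟩, ?_⟩
      rw [hχe, ← hx]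
      exact congrArg θ₂ (Subtype.ext (hηl x _))⟩)
  exact ⟨X, hAC.trans hA hC₁X, hCC.trans hC hC₂X⟩

/-- Conjugate subgroups outside `ℋ` are joined. -/
theorem join_of_isConj (hS : IsPGroup p S) (hconj : ∀ P ∈ ℋ, ∀ Q, F.IsConj P Q → Q ∈ ℋ)
    (hgen : ∀ E : FusionSystem S, (∀ P ∈ ℋ, F.Hom P ⊆ E.Hom P) → F ≤ E) {n : ℕ} (hn' : n < Nat.card S)
    (hbig : ∀ R : Subgroup Ω, R ≤ S → n < Nat.card R → ∃ Q, F.IsConj R Q ∧ Good F p Q)
    {A B : Subgroup Ω} (hA : A ∉ ℋ) (hn : Nat.card A = n) (h : F.IsConj A B) : Join F A B := by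
  obtain ⟨φ, hφ, hr⟩ := h
  have key : ∀ {P : Subgroup Ω} {φ : P →* Ω}, Gen F ℋ φ → ∀ A : Subgroup Ω, A ≤ P → A ∉ ℋ →
      Nat.card A = n → Join F A ((A.subgroupOf P).map φ) := by
    intro P φ hg
    induction hg with
    | @base P R φ ψ hR hψ hle he =>
      intro A hAP hA hn
      have hRS := src_le hψ
      haveI := finite_sub hRS
      have hAR : A < R := lt_of_le_of_ne (hAP.trans hle) fun h => by
        rcases hR with hR | hR
        · exact hA (h ▸ hR)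
        · rw [h, hR] at hn; omega
      have hlt := FusionP3.Induction.lt_normalizerIn (hS.to_le hRS) hAR
      obtain ⟨ψ', hψ', hψ'e⟩ := exists_restrict hψ (normalizerIn_le (S := R) A)
      refine join_of_step hS hbig hψ' hn hlt.le (fun g hg => ⟨hRS hg.1, hg.2⟩) hlt ?_
      ext y
      constructor
      · rintro ⟨x, hx, rfl⟩
        exact ⟨⟨x, hAP hx⟩, hx, by rw [he, hψ'e]⟩
      · rintro ⟨x, hx, rfl⟩
        exact ⟨⟨x, hlt.le hx⟩, hx, by rw [he, hψ'e]⟩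
    | @comp P Q φ ψ χ hgφ hgψ hm he ihφ ihψ =>
      intro A hAP hA hn
      set B := (A.subgroupOf P).map φ
      have hP := src_le hgφ.mem
      have hcB : Nat.card B = n := by
        rw [Subgroup.card_map_of_injective (F.injective_of_mem hgφ.mem),
          Nat.card_congr (Subgroup.subgroupOfEquivOfLe hAP).toEquiv, hn]
      have hBQ : B ≤ Q := by rintro _ ⟨x, -, rfl⟩; exact hm x
      have hBℋ : B ∉ ℋ := fun hB => by
        obtain ⟨φA, hφA, hφAe⟩ := exists_restrict hgφ.mem hAP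
        refine hA (hconj B hB A (isConj_symm ⟨φA, hφA, ?_⟩))
        ext y
        constructor
        · rintro ⟨x, rfl⟩; exact ⟨⟨x, hAP x.2⟩, x.2, (hφAe x).symm⟩
        · rintro ⟨x, hx, rfl⟩; exact ⟨⟨x, hx⟩, hφAe _⟩
      have h3 : (A.subgroupOf P).map χ = (B.subgroupOf Q).map ψ := by
        ext y
        constructor
        · rintro ⟨x, hx, rfl⟩; exact ⟨⟨φ x, hm x⟩, ⟨x, hx, rfl⟩, (he x).symm⟩
        · rintro ⟨z, ⟨x, hx, hxz⟩, rfl⟩
          exact ⟨x, hx, (he x).trans (congrArg ψ (Subtype.ext hxz))⟩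
      rw [h3]
      refine Join.trans hS hn' hbig (hAP.trans hP) ?_ ?_ hcB (ihφ A hAP hA hn) (ihψ B hBQ hBℋ hcB)
      · exact hBQ.trans (src_le hgψ.mem)
      · rintro _ ⟨x, -, rfl⟩; exact apply_mem hgψ.mem x
  have h1 := key (gen_of_generated hconj hgen hφ) A le_rfl hA hn
  rwa [Subgroup.subgroupOf_self, ← MonoidHom.range_eq_map, hr] at h1

/-- Every member of the class maps fully into a member with largest normalizer. -/
theorem full_to_top (hS : IsPGroup p S) (hconj : ∀ P ∈ ℋ, ∀ Q, F.IsConj P Q → Q ∈ ℋ)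
    (hgen : ∀ E : FusionSystem S, (∀ P ∈ ℋ, F.Hom P ⊆ E.Hom P) → F ≤ E) {n : ℕ} (hn' : n < Nat.card S)
    (hbig : ∀ R : Subgroup Ω, R ≤ S → n < Nat.card R → ∃ Q, F.IsConj R Q ∧ Good F p Q)
    {A P : Subgroup Ω} (hA : A ∉ ℋ) (hn : Nat.card A = n) (h : F.IsConj A P)
    (hP : F.IsFullyNormalized P) : Full F A P := by
  obtain ⟨C, hAC, hPC⟩ := join_of_isConj hS hconj hgen hn' hbig hA hn h
  exact hAC.trans (isConj_le_left h) (hPC.symm hP.1 (hP.2 C (hPC.le_left hP.1)))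

end Cfsg.Agent.Lib.FusionP3.Criterion
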