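import Cfsg.Agent.Lib.FusionP3.Criterion.Claim

/-!
The saturation criterion.
-/

set_option autoImplicit false
set_option linter.style.haveILetI false
set_option linter.unusedSectionVars false

namespace Cfsg.Agent.Lib.FusionP3.Criterion

open Cfsg Cfsg.FusionSystem Cfsg.Agent.Lib.FS
open Cfsg.Agent.Lib.FusionP3.GT

variable {Ω : Type*} [Group Ω] {S : Subgroup Ω} [Finite S] {p : ℕ} [Fact p.Prime] {F : FusionSystem S}
variable {n : ℕ} {ℋ : Set (Subgroup Ω)} {P : Subgroup Ω}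

/-- All maps inside the class are induced by full maps and elements of `extAut`. -/
theorem Setup.conn (h : Setup F p n ℋ P) {X : Subgroup Ω} {φ : X →* Ω} (hg : Gen F ℋ φ) :
    ∀ (A B : Subgroup Ω) (eA : A ≃* P) (eB : B ≃* P), FullEquiv F eA → FullEquiv F eB →
      F.IsConj A P → (hAX : A ≤ X) → ∀ f : A ≃* B, (∀ x : A, φ ⟨x, hAX x.2⟩ = f x) →
        (eA.symm.trans (f.trans eB) : MulAut P) ∈ extAut F P (top F p P) h.lt_top.le := by
  induction hg with
  | @base X R φ ψ hR hψ hle he =>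
    intro A B eA eB heA heB hA hAX f hf
    have hRS := src_le hψ
    haveI := finite_sub hRS
    have hAR : A < R := lt_of_le_of_ne (hAX.trans hle) fun he' => by
      rcases hR with hR | hR
      · exact h.notMem_of_isConj hA (he' ▸ hR)
      · have h1 := isConj_card hA
        rw [he', hR, h.card_eq] at h1
        exact h.lt_card.ne h1
    have hlt := FusionP3.Induction.lt_normalizerIn (h.pGroup.to_le hRS) hAR
    obtain ⟨ψ', hψ', hψ'e⟩ := exists_restrict hψ (normalizerIn_le (S := R) A)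
    refine h.step h.claimed heA heB f hψ' hlt (fun g hg => ⟨hRS hg.1, hg.2⟩) (Nat.zero_le _) fun x hx => ?_
    rw [hψ'e, ← hf, he]
  | @comp X Q φ ψ χ hgφ hgψ hm he ihφ ihψ =>
    intro A C eA eC heA heC hA hAX f hf
    obtain ⟨φA, hφA, hφAe⟩ := exists_restrict hgφ.mem hAX
    have hBP : F.IsConj φA.range P := isConj_trans (isConj_symm ⟨φA, hφA, rfl⟩) hA
    obtain ⟨eB, heB⟩ := exists_fullEquiv (range_le_base hφA) (h.full hBP)
    set f₁ := homEquiv hφA rfl
    have hBQ : φA.range ≤ Q := by rintro _ ⟨x, rfl⟩; rw [hφAe]; exact hm _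
    have h1 := ihφ A φA.range eA eB heA heB hA hAX f₁ fun x => (hφAe x).symm
    have h2 := ihψ φA.range C eB eC heB heC hBP hBQ (f₁.symm.trans f) fun y => by
      obtain ⟨x, rfl⟩ := f₁.surjective y
      rw [MulEquiv.trans_apply, MulEquiv.symm_apply_apply, ← hf, he]
      exact congrArg ψ (Subtype.ext ((homEquiv_coe hφA rfl x).trans (hφAe x)))
    have h3 : (eA.symm.trans (f.trans eC) : MulAut P) =
        (eB.symm.trans ((f₁.symm.trans f).trans eC) : MulAut P) * (eA.symm.trans (f₁.trans eB)) :=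
      MulEquiv.ext fun x => by simp [MulAut.mul_apply]
    rw [h3]
    exact mul_mem h2 h1

/-- A map onto `P` is a full map followed by an element of `extAut`. -/
theorem Setup.exists_full_of_hom (h : Setup F p n ℋ P) {A : Subgroup Ω} {φ : A →* Ω} (hφ : φ ∈ F.Hom A)
    (hr : φ.range = P) : ∃ eA : A ≃* P, FullEquiv F eA ∧ ∃ a ∈ extAut F P (top F p P) h.lt_top.le,
      ∀ x : A, φ x = ((a (eA x) : P) : Ω) := by
  have hA : F.IsConj A P := ⟨φ, hφ, hr⟩
  obtain ⟨eA, heA⟩ := exists_fullEquiv (src_le hφ) (h.full hA)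
  refine ⟨eA, heA, _, h.conn (gen_of_generated h.conj h.gen hφ) A P eA (MulEquiv.refl P) heA
    (fullEquiv_refl h.le) hA le_rfl (homEquiv hφ hr) fun x => rfl, fun x => ?_⟩
  simp

theorem Setup.autGroup_eq (h : Setup F p n ℋ P) : F.autGroup P = extAut F P (top F p P) h.lt_top.le := by
  apply le_antisymm
  · intro a ha
    obtain ⟨φ, hφ, hr, he⟩ := exists_hom_of_aut h.le ha
    have h1 := h.conn (gen_of_generated h.conj h.gen hφ) P P (MulEquiv.refl P) (MulEquiv.refl P)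
      (fullEquiv_refl h.le) (fullEquiv_refl h.le) (isConj_refl F h.le) le_rfl a fun x => he x
    exact h1
  · rintro _ ⟨k, hk, rfl⟩
    exact res_mem_autGroup h.lt_top.le ((top_le P).trans (normalizerIn_le P)) hk

theorem Setup.fullyAutomized (h : Setup F p n ℋ P) : F.IsFullyAutomized p P := by
  have hTS : top F p P ≤ S := (top_le P).trans (normalizerIn_le P)
  haveI := finite_sub hTS
  haveI := finite_sub h.le
  haveI := finite_mulAut ↥(top F p P)
  haveI := finite_mulAut ↥P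
  let K := (F.autGroup (top F p P)).subgroupOf (preserve P (top F p P))
  obtain ⟨T⟩ : Nonempty (Sylow p K) := inferInstance
  let f : K →* F.autGroup P := ((res h.lt_top.le).comp K.subtype).codRestrict _ fun k =>
    h.autGroup_eq ▸ ⟨k.1, k.2, rfl⟩
  have hf : Function.Surjective f := by
    rintro ⟨a, ha⟩
    rw [h.autGroup_eq] at ha
    obtain ⟨k, hk, rfl⟩ := ha
    exact ⟨⟨k, hk⟩, rfl⟩
  let T' := T.mapSurjective hf
  let Tm := ((T : Subgroup K).map K.subtype).map (preserve P (top F p P)).subtype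
  obtain ⟨a, ha, hconj⟩ := h.aligned.2 Tm
    (by rintro _ ⟨_, ⟨k, -, rfl⟩, rfl⟩; exact ⟨k.2, k.1.2⟩) ((T.isPGroup'.map _).map _)
  have hle : ∀ t : F.autGroup P, t ∈ (T' : Subgroup (F.autGroup P)) →
      (res h.lt_top.le ⟨a, ha.2⟩ * (t : MulAut P) * (res h.lt_top.le ⟨a, ha.2⟩)⁻¹) ∈ autInducedBy S P := by
    intro t ht
    obtain ⟨k, hk, rfl⟩ := Subgroup.mem_map.1 (show t ∈ (T : Subgroup K).map f from ht)
    obtain ⟨g, hg, hge⟩ := mem_autInducedBy.1 (hconj _ ⟨_, ⟨k, hk, rfl⟩, rfl⟩)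
    refine mem_autInducedBy.2 ⟨g, hg, fun x => ?_⟩
    show ((((res h.lt_top.le ⟨a, ha.2⟩) * res h.lt_top.le k.1 * (res h.lt_top.le ⟨a, ha.2⟩)⁻¹ :
      MulAut P) x : P) : Ω) = _
    rw [← map_inv, ← map_mul, ← map_mul, res_coe]
    exact hge _
  obtain ⟨R, hR⟩ := ((isPGroup_autInducedBy h.pGroup P).of_equiv
    (Subgroup.subgroupOfEquivOfLe (autInducedBy_le_autGroup F h.le)).symm).exists_le_sylow
  refine ⟨h.le, R, (Subgroup.eq_of_le_of_card_ge hR ?_).symm⟩
  rw [Sylow.card_eq_multiplicity R, ← Sylow.card_eq_multiplicity T',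
    Nat.card_congr (Subgroup.subgroupOfEquivOfLe (autInducedBy_le_autGroup F h.le)).toEquiv]
  exact Nat.card_le_card_of_injective (fun t : (T' : Subgroup (F.autGroup P)) =>
    (⟨_, hle t.1 t.2⟩ : autInducedBy S P)) fun t t' e => Subtype.ext (Subtype.ext
      (mul_left_cancel (mul_right_cancel (congrArg Subtype.val e :
        res h.lt_top.le ⟨a, ha.2⟩ * ((t : F.autGroup P) : MulAut P) * (res h.lt_top.le ⟨a, ha.2⟩)⁻¹ =
          res h.lt_top.le ⟨a, ha.2⟩ * ((t' : F.autGroup P) : MulAut P) * (res h.lt_top.le ⟨a, ha.2⟩)⁻¹))))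

theorem Setup.receptive (h : Setup F p n ℋ P) : F.IsReceptive P := by
  refine ⟨h.le, fun A φ hφ hr => ?_⟩
  have hAS := src_le hφ
  have hTS : top F p P ≤ S := (top_le P).trans (normalizerIn_le P)
  haveI := finite_sub hTS
  haveI := finite_mulAut ↥(top F p P)
  set T := top F p P with hT
  obtain ⟨eA, ⟨θ, hθ, hθe⟩, a, ha, hφe⟩ := h.exists_full_of_hom hφ hr
  obtain ⟨⟨k, hkp⟩, hk, hka⟩ := ha
  have hk' : k ∈ F.autGroup (top F p P) := Subgroup.mem_subgroupOf.1 hk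
  set N := extender S A φ
  obtain ⟨θN, hθN, hθNe⟩ := exists_restrict hθ (extender_le_normalizerIn A φ)
  set M := θN.range
  have hmapA := map_eq_of_equiv (le_normalizerIn hAS) eA hθe
  have hMN : M ≤ normalizerIn S P := by
    rintro _ ⟨x, rfl⟩; rw [hθNe]; exact apply_mem_normalizer hAS hθ hmapA _
  -- the automorphisms of `top P` induced by `M`
  set K := F.autGroup T ⊓ preserve P T with hKdef
  set U := autInducedBy (normalizerIn S P) T with hUdef
  set L := K ⊓ ((autInducedBy S P).comap (res h.lt_top.le)).map (preserve P T).subtype with hLdef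
  have hUL : U ≤ L := by
    intro u hu
    obtain ⟨g, hg, hge⟩ := mem_autInducedBy.1 hu
    have hup : u ∈ preserve P T := fun x => by rw [hge]; exact Subgroup.mem_normalizer_iff.1 hg.2 x
    exact ⟨⟨mem_autGroup_of_hom (F.conj_mem hTS hg.1) hge, hup⟩, ⟨⟨u, hup⟩,
      mem_autInducedBy.2 ⟨g, hg.1, fun x => hge _⟩, rfl⟩⟩
  obtain ⟨R, hR⟩ : ∃ R : Sylow p L, (R : Subgroup L) = U.subgroupOf L := by
    refine exists_sylow_of_catches hUL ((isPGroup_autInducedBy h.pGroup T).to_le ?_) fun W hW hWp => ?_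
    · intro u hu
      obtain ⟨g, hg, hge⟩ := mem_autInducedBy.1 hu
      exact mem_autInducedBy.2 ⟨g, hg.1, hge⟩
    · obtain ⟨b, hb, hbW⟩ := h.aligned.2 W (hW.trans inf_le_left) hWp
      refine ⟨b, fun t ht => ?_⟩
      obtain ⟨g, hg, hge⟩ := mem_autInducedBy.1 (hbW t ht)
      refine mem_autInducedBy.2 ⟨g, ⟨hg, ?_⟩, hge⟩
      haveI := finite_sub h.le
      refine mem_normalizer_of_conj_mem fun x hx => ?_
      rw [← hge ⟨x, h.lt_top.le hx⟩]
      exact ((mul_mem (mul_mem hb.2 (hW ht).1.2) (inv_mem hb.2) : b * t * b⁻¹ ∈ preserve P T) _).1 hx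
  -- transporting the action of `M` by `k` lands in `L`
  have hVL : (autInducedBy M T).map (MulAut.conj k).toMonoidHom ≤ L := by
    rintro _ ⟨v, hv, rfl⟩
    obtain ⟨g, hg, hge⟩ := mem_autInducedBy.1 hv
    have hgN := hMN hg
    have hvp : v ∈ preserve P T := fun x => by rw [hge]; exact Subgroup.mem_normalizer_iff.1 hgN.2 x
    have hva : v ∈ F.autGroup T := mem_autGroup_of_hom (F.conj_mem hTS hgN.1) hge
    rw [MulEquiv.coe_toMonoidHom, MulAut.conj_apply]
    have hkv : k * v * k⁻¹ ∈ preserve P T :=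
      (preserve P T).mul_mem ((preserve P T).mul_mem hkp hvp) ((preserve P T).inv_mem hkp)
    refine ⟨⟨(F.autGroup T).mul_mem ((F.autGroup T).mul_mem hk' hva) ((F.autGroup T).inv_mem hk'), hkv⟩,
      ⟨⟨k * v * k⁻¹, hkv⟩, ?_, rfl⟩⟩
    show res h.lt_top.le (⟨k, hkp⟩ * ⟨v, hvp⟩ * (⟨k, hkp⟩ : preserve P T)⁻¹) ∈ autInducedBy S P
    rw [map_mul, map_mul, map_inv, hka]
    obtain ⟨x₀, rfl⟩ := hg
    obtain ⟨hx₀S, hx₀n, u, hu, hxu⟩ := mem_extender.1 x₀.2
    refine mem_autInducedBy.2 ⟨u, hu, fun y => ?_⟩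
    obtain ⟨z, rfl⟩ := (eA.trans a).surjective y
    have hz : (x₀ : Ω) * (z : Ω) * (x₀ : Ω)⁻¹ ∈ A := conj_mem_of_normalizer hx₀n z.2
    have h1 := hxu z hz
    rw [hφe, hφe] at h1
    rw [MulEquiv.trans_apply, MulAut.mul_apply, MulAut.mul_apply, MulAut.inv_apply_self, ← h1]
    refine congrArg (fun w => ((a w : P) : Ω)) (Subtype.ext ?_)
    rw [res_coe]
    show ((v _ : T) : Ω) = _
    rw [hge, hθNe, Subgroup.coe_inclusion, ← hθe _ (le_normalizerIn hAS z.2), ← hθe _ (le_normalizerIn hAS hz)]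
    show θ _ * θ _ * (θ _)⁻¹ = θ _
    rw [← map_inv, ← map_mul, ← map_mul]
    rfl
  have hMS : M ≤ S := hMN.trans (normalizerIn_le P)
  obtain ⟨l, hl, hlV⟩ := exists_conj_le_sylow R hR hVL
    ((isPGroup_autInducedBy_of_le h.pGroup hMS T).map _)
  obtain ⟨⟨hla, hlp⟩, y₀, hlS, rfl⟩ := hl
  obtain ⟨g, hg, hge⟩ := mem_autInducedBy.1 hlS
  -- an element of `U` with the same action on `P` as `l`
  have hgN : g ∈ normalizerIn S P := ⟨hg, mem_normalizer_of_aut hge⟩
  set u : MulAut T := T.normalizerMonoidHom ⟨g, normalizerIn_le_normalizer_top h.le hgN⟩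
  have huU : u ∈ U := mem_autInducedBy.2 ⟨g, hgN, fun _ => rfl⟩
  have hup : u ∈ preserve P T := (hUL huU).1.2
  set k' := u⁻¹ * (y₀ : MulAut T) * k with hk'def
  have hk'a : k' ∈ F.autGroup T := mul_mem (mul_mem (inv_mem (hUL huU).1.1) hla) hk'
  have hk'P : ∀ x : P, ((k' (Subgroup.inclusion h.lt_top.le x) : T) : Ω) = ((a x : P) : Ω) := by
    intro x
    have h1 : res h.lt_top.le (⟨u, hup⟩⁻¹ * ⟨y₀, hlp⟩ * (⟨k, hkp⟩ : preserve P T)) = a := by
      rw [map_mul, map_mul, map_inv, hka]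
      have h2 : res h.lt_top.le ⟨y₀, hlp⟩ = res h.lt_top.le ⟨u, hup⟩ := by
        refine MulEquiv.ext fun y => Subtype.ext ?_
        exact (hge y).trans rfl
      rw [h2, inv_mul_cancel, one_mul]
    rw [← h1]
    rfl
  obtain ⟨ψM, hψM, hψMe⟩ := FusionP3.Induction.exists_extend_aut h.good.2
    (fun g hg => ⟨hMS hg, normalizerIn_le_normalizer_top h.le (hMN hg)⟩) hk'a (by
    intro m hm
    have hmn := normalizerIn_le_normalizer_top (F := F) (p := p) h.le (hMN hm)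
    have h1 := hlV _ ⟨T.normalizerMonoidHom ⟨m, hmn⟩, mem_autInducedBy.2 ⟨m, hm, fun _ => rfl⟩, rfl⟩
    have h2 : u⁻¹ * ((y₀ : MulAut T) * (k * T.normalizerMonoidHom ⟨m, hmn⟩ * k⁻¹) * (y₀ : MulAut T)⁻¹) * u ∈ U :=
      mul_mem (mul_mem (inv_mem huU) h1) huU
    obtain ⟨w, hw, hwe⟩ := mem_autInducedBy.1 h2
    refine ⟨w, hw.1, fun x hx => ?_⟩
    rw [← hwe]
    have h3 : u⁻¹ * ((y₀ : MulAut T) * (k * T.normalizerMonoidHom ⟨m, hmn⟩ * k⁻¹) * (y₀ : MulAut T)⁻¹) * u * k' =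
        k' * T.normalizerMonoidHom ⟨m, hmn⟩ := by rw [hk'def]; group
    rw [← MulAut.mul_apply, h3]
    rfl)
  have hθM : ∀ x, θN x ∈ M := fun x => ⟨x, rfl⟩
  obtain ⟨χ, hχ, hχe⟩ := exists_comp hθN hψM hθM
  refine ⟨χ, hχ, fun x hxA hxN => ?_⟩
  have h1 : θN ⟨x, hxN⟩ = (eA ⟨x, hxA⟩ : Ω) := (hθNe _).trans (hθe ⟨x, hxA⟩ _)
  rw [hχe, hφe, ← hk'P]
  refine Eq.trans ?_ (hψMe _ (h.lt_top.le (eA ⟨x, hxA⟩).2) (h1 ▸ hθM _))
  exact congrArg ψM (Subtype.ext h1)

/-- The criterion. -/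
theorem isSaturated (hS : IsPGroup p S) (hconj : ∀ P ∈ ℋ, ∀ Q, F.IsConj P Q → Q ∈ ℋ)
    (hsat : ∀ P ∈ ℋ, ∃ Q, F.IsConj P Q ∧ F.IsFullyAutomized p Q ∧ F.IsReceptive Q)
    (hgen : ∀ E : FusionSystem S, (∀ P ∈ ℋ, F.Hom P ⊆ E.Hom P) → F ≤ E)
    (hstar : ∀ P : Subgroup Ω, F.IsCentric P → P ∉ ℋ → ∃ Q, F.IsConj P Q ∧
      ¬ (autInducedBy S Q ⊓ (pCore p ↥(F.autGroup Q)).map (F.autGroup Q).subtype ≤ Inn Q)) :
    F.IsSaturated p := by
  suffices key : ∀ (d : ℕ) (P : Subgroup Ω), P ≤ S → Nat.card S - Nat.card P ≤ d →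
      ∃ Q, F.IsConj P Q ∧ Good F p Q from fun P hP => key _ P hP le_rfl
  intro d
  induction d using Nat.strong_induction_on with
  | _ d ih =>
    intro P hP hd
    by_cases hPℋ : P ∈ ℋ
    · exact hsat P hPℋ
    rcases hP.eq_or_lt with rfl | hlt
    · -- the top group is in the family
      have hc : F.IsCentric P := ⟨le_rfl, fun Q hQ => by
        rw [Subgroup.eq_of_le_of_card_ge (isConj_le_right hQ) (isConj_card hQ).ge]
        exact centralizerIn_le P⟩
      obtain ⟨Q, hQ, hQn⟩ := hstar P hc hPℋ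
      exfalso
      refine hQn fun α hα => ?_
      obtain ⟨g, hg, hge⟩ := mem_autInducedBy.1 hα.1
      have hQP : Q = P := Subgroup.eq_of_le_of_card_ge (isConj_le_right hQ) (isConj_card hQ).ge
      exact ⟨⟨g, hQP.ge hg⟩, MulEquiv.ext fun x => Subtype.ext (hge x).symm⟩
    have hcard : Nat.card P < Nat.card S :=
      lt_of_not_ge fun he => hlt.ne (Subgroup.eq_of_le_of_card_ge hP he)
    obtain ⟨Q, hPQ, hQ⟩ := exists_setup hS hconj hgen hcard (fun R hR hlt' => by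
      have := Subgroup.card_le_of_le hR
      exact ih (Nat.card S - Nat.card R) (by omega) R hR le_rfl) hstar hP hPℋ rfl
    exact ⟨Q, hPQ, hQ.fullyAutomized, hQ.receptive⟩

end Cfsg.Agent.Lib.FusionP3.Criterion
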