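import Cfsg.Agent.Lib.FusionP3.Criterion.Gen

/-!
The preimage in `N_S(P)` of `O_p(Aut_F(P))` and its transport along maps of the system.
-/

set_option autoImplicit false
set_option linter.style.haveILetI false
set_option linter.unusedSectionVars false

namespace Cfsg.Agent.Lib.FusionP3.Criterion

open Cfsg Cfsg.FusionSystem Cfsg.Agent.Lib.FS
open Cfsg.Agent.Lib.FusionP3.GT

variable {Ω : Type*} [Group Ω] {S : Subgroup Ω} [Finite S] {p : ℕ} [Fact p.Prime] {F : FusionSystem S}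

/-- `O_p(Aut_F(P))` -/
def opAut (F : FusionSystem S) (p : ℕ) (P : Subgroup Ω) : Subgroup (MulAut P) :=
  (pCore p ↥(F.autGroup P)).map (F.autGroup P).subtype

theorem opAut_le (P : Subgroup Ω) : opAut F p P ≤ F.autGroup P := Subgroup.map_subtype_le _

theorem isPGroup_opAut {P : Subgroup Ω} (hP : P ≤ S) : IsPGroup p (opAut F p P) := by
  haveI := finite_sub hP
  haveI := finite_mulAut ↥P
  exact (Cores.pCore_isPGroup (G := ↥(F.autGroup P)) p).map (F.autGroup P).subtype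

theorem conj_mem_opAut {P : Subgroup Ω} {a o : MulAut P} (ha : a ∈ F.autGroup P) (ho : o ∈ opAut F p P) :
    a * o * a⁻¹ ∈ opAut F p P := by
  obtain ⟨o', ho', rfl⟩ := Subgroup.mem_map.1 ho
  have hn : (pCore p ↥(F.autGroup P)).Normal := inferInstance
  refine Subgroup.mem_map.2 ⟨⟨a, ha⟩ * o' * (⟨a, ha⟩ : ↥(F.autGroup P))⁻¹, hn.conj_mem o' ho' _, ?_⟩
  simp

theorem inn_le_opAut (hS : IsPGroup p S) {P : Subgroup Ω} (hP : P ≤ S) : Inn P ≤ opAut F p P := by
  haveI := finite_sub hP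
  haveI := finite_mulAut ↥P
  intro α hα
  exact ⟨⟨α, inn_le_autGroup F hP hα⟩, Cores.le_pCore
    ((((isPGroup_of_le hS hP).of_surjective _ (MulAut.conj : P →* MulAut P).rangeRestrict_surjective)).of_equiv
      (Subgroup.subgroupOfEquivOfLe (inn_le_autGroup F hP)).symm) (Subgroup.mem_subgroupOf.2 hα), rfl⟩

theorem map_opAut {P Q : Subgroup Ω} {φ : P →* Ω} (hφ : φ ∈ F.Hom P) (hQ : φ.range = Q) :
    (opAut F p P).map (MulAut.congr (homEquiv hφ hQ)).toMonoidHom = opAut F p Q := by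
  let c := MulAut.congr (homEquiv hφ hQ)
  let e : F.autGroup P ≃* F.autGroup Q :=
    ((F.autGroup P).equivMapOfInjective c.toMonoidHom c.injective).trans
      (MulEquiv.subgroupCongr (map_congr_autGroup hφ hQ))
  have he : (F.autGroup Q).subtype.comp e.toMonoidHom = c.toMonoidHom.comp (F.autGroup P).subtype :=
    MonoidHom.ext fun _ => rfl
  rw [opAut, opAut, Subgroup.map_map, ← Cores.map_pCore_equiv e, Subgroup.map_map, he]

/-- the elements of `N_S(P)` acting on `P` within `O_p(Aut_F(P))` -/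
def top (F : FusionSystem S) (p : ℕ) (P : Subgroup Ω) : Subgroup Ω :=
  Induction.preimageAut S P (opAut F p P)

theorem top_le (P : Subgroup Ω) : top F p P ≤ normalizerIn S P := Induction.preimageAut_le _ _

theorem le_top' (hS : IsPGroup p S) {P : Subgroup Ω} (hP : P ≤ S) : P ≤ top F p P :=
  Induction.le_preimageAut hP (inn_le_opAut hS hP)

theorem centralizerIn_le_top {P : Subgroup Ω} : centralizerIn S P ≤ top F p P := fun c hc =>
  ⟨centralizerIn_le_normalizerIn P hc, 1, one_mem _, fun x => by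
    rw [MulAut.one_apply, ← (mem_centralizerIn.1 hc).2 x x.2, mul_inv_cancel_right]⟩

/-- Maps of the system carry `top` to `top`. -/
theorem apply_mem_top_iff {P₁ P₂ D : Subgroup Ω} (hD : P₁ ≤ D) {ψ : D →* Ω} (hψ : ψ ∈ F.Hom D)
    (he : (P₁.subgroupOf D).map ψ = P₂) (g : D) (hg : (g : Ω) ∈ Subgroup.normalizer (P₁ : Set Ω)) :
    ψ g ∈ top F p P₂ ↔ (g : Ω) ∈ top F p P₁ := by
  obtain ⟨φ, hφ, hφe⟩ := exists_restrict hψ hD
  have hr : φ.range = P₂ := by
    ext y
    rw [← he]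
    constructor
    · rintro ⟨x, rfl⟩; rw [hφe]; exact ⟨_, x.2, rfl⟩
    · rintro ⟨x, hx, rfl⟩; exact ⟨⟨x, hx⟩, hφe _⟩
  have hgS : (g : Ω) ∈ normalizerIn S P₁ := ⟨src_le hψ g.2, hg⟩
  have hψg : ψ g ∈ normalizerIn S P₂ := apply_mem_normalizerIn hψ hD he g hg
  have hval : ∀ (w : MulAut P₁) (x : P₁),
      ((MulAut.congr (homEquiv hφ hr) w (homEquiv hφ hr x) : P₂) : Ω) = φ (w x) := fun w x => by
    show ((homEquiv hφ hr (w ((homEquiv hφ hr).symm (homEquiv hφ hr x))) : P₂) : Ω) = _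
    rw [MulEquiv.symm_apply_apply, homEquiv_coe]
  have hconj : ∀ (x : P₁) (hx : (g : Ω) * x * (g : Ω)⁻¹ ∈ P₁),
      φ ⟨(g : Ω) * x * (g : Ω)⁻¹, hx⟩ = ψ g * φ x * (ψ g)⁻¹ := fun x hx => by
    rw [hφe, hφe, ← map_inv, ← map_mul, ← map_mul]
    rfl
  constructor
  · rintro ⟨-, w₂, hw₂, hwe⟩
    rw [← map_opAut hφ hr] at hw₂
    obtain ⟨w, hw, rfl⟩ := hw₂
    refine ⟨hgS, w, hw, fun x => ?_⟩
    have h1 := hwe (homEquiv hφ hr x)
    rw [MulEquiv.coe_toMonoidHom, hval, homEquiv_coe,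
      ← hconj x (conj_mem_of_normalizer hg x.2)] at h1
    exact congrArg Subtype.val (F.injective_of_mem hφ h1)
  · rintro ⟨-, w, hw, hwe⟩
    refine ⟨hψg, _, (map_opAut hφ hr).le ⟨w, hw, rfl⟩, fun y => ?_⟩
    obtain ⟨x, rfl⟩ := (homEquiv hφ hr).surjective y
    rw [MulEquiv.coe_toMonoidHom, hval, homEquiv_coe, ← hconj x (conj_mem_of_normalizer hg x.2)]
    exact congrArg φ (Subtype.ext (hwe x))

end Cfsg.Agent.Lib.FusionP3.Criterion
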