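import Cfsg.Agent.Lib.FusionP3.GT.Basic
import Cfsg.Agent.Lib.FusionP3.Induction
import Cfsg.Agent.Lib.FusionSystem.Normal
import Cfsg.Agent.Lib.FusionSystem.Saturation

/-!
Towards the saturation criterion: extending maps to aligned pairs, and joining the subgroups of one
conjugacy class by maps defined on full normalizers.
-/

set_option autoImplicit false
set_option linter.style.haveILetI false
set_option linter.unusedSectionVars false

namespace Cfsg.Agent.Lib.FusionP3.Criterion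

open Cfsg Cfsg.FusionSystem Cfsg.Agent.Lib.FS
open Cfsg.Agent.Lib.FusionP3.GT

variable {Ω : Type*} [Group Ω] {S : Subgroup Ω} [Finite S] {p : ℕ} [Fact p.Prime] {F : FusionSystem S}

/-- fully automized and receptive -/
def Good (F : FusionSystem S) (p : ℕ) (Q : Subgroup Ω) : Prop :=
  F.IsFullyAutomized p Q ∧ F.IsReceptive Q

/-- `Aut_S(Q)` catches every `p`-subgroup of the stabiliser of `P` in `Aut_F(Q)`, up to conjugacy there. -/
def Aligned (F : FusionSystem S) (p : ℕ) (P Q : Subgroup Ω) : Prop :=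
  P ≤ Q ∧ ∀ T : Subgroup (MulAut Q), T ≤ F.autGroup Q ⊓ preserve P Q → IsPGroup p T →
    ∃ a ∈ F.autGroup Q ⊓ preserve P Q, ∀ t ∈ T, a * t * a⁻¹ ∈ autInducedBy S Q

theorem exists_aligned {Q : Subgroup Ω} (hQ : F.IsFullyAutomized p Q) {P₀ : Subgroup Ω} (hP₀ : P₀ ≤ Q) :
    ∃ a ∈ F.autGroup Q, ∃ P : Subgroup Ω, Aligned F p P Q ∧
      (∀ x : Q, (x : Ω) ∈ P₀ ↔ ((a x : Q) : Ω) ∈ P) := by
  haveI := finite_sub hQ.1
  haveI := finite_mulAut ↥Q
  set K₀ := F.autGroup Q ⊓ preserve P₀ Q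
  let T : Sylow p K₀ := default
  obtain ⟨R, hR⟩ := hQ.2
  obtain ⟨a, ha, hT⟩ := exists_conj_le_sylow R hR (T := (T : Subgroup K₀).map K₀.subtype)
    ((Subgroup.map_subtype_le _).trans inf_le_left) (T.isPGroup'.map _)
  set P := ((P₀.subgroupOf Q).map (a : MulAut Q).toMonoidHom).map Q.subtype with hP
  have hmem : ∀ x : Q, (x : Ω) ∈ P₀ ↔ ((a x : Q) : Ω) ∈ P := by
    intro x
    constructor
    · intro hx; exact ⟨a x, ⟨x, hx, rfl⟩, rfl⟩
    · rintro ⟨y, ⟨z, hz, rfl⟩, hy⟩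
      have h1 : a z = a x := Subtype.ext hy
      rw [← a.injective h1]; exact hz
  refine ⟨a, ha, P, ⟨Subgroup.map_subtype_le _, fun T' hT' hT'p => ?_⟩, hmem⟩
  have hconj : ∀ k : MulAut Q, k ∈ preserve P Q ↔ a⁻¹ * k * a ∈ preserve P₀ Q := by
    intro k
    constructor
    · intro hk x
      rw [MulAut.mul_apply, MulAut.mul_apply, hmem x, hk (a x), hmem, MulAut.apply_inv_self]
    · intro hk y
      have h1 := hk (a⁻¹ y)
      rw [MulAut.mul_apply, MulAut.mul_apply, hmem, hmem, MulAut.apply_inv_self,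
        MulAut.apply_inv_self] at h1
      exact h1
  set T'' := T'.map (MulAut.conj a⁻¹).toMonoidHom
  have hT'' : T'' ≤ K₀ := by
    rintro _ ⟨t, ht, rfl⟩
    simp only [MulEquiv.coe_toMonoidHom, MulAut.conj_apply, inv_inv]
    exact ⟨(F.autGroup Q).mul_mem ((F.autGroup Q).mul_mem ((F.autGroup Q).inv_mem ha) (hT' ht).1) ha,
      (hconj t).1 (hT' ht).2⟩
  obtain ⟨k, hk, hkT⟩ := exists_conj_le_sylow T
    (R₀ := (T : Subgroup K₀).map K₀.subtype)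
    (Subgroup.comap_map_eq_self_of_injective K₀.subtype_injective _).symm hT'' (hT'p.map _)
  refine ⟨a * k * a⁻¹, ⟨(F.autGroup Q).mul_mem ((F.autGroup Q).mul_mem ha hk.1) ((F.autGroup Q).inv_mem ha),
    (hconj _).2 (by simpa [mul_assoc] using hk.2)⟩, fun t ht => ?_⟩
  have h1 := hT _ (hkT _ ⟨t, ht, rfl⟩)
  simp only [MulEquiv.coe_toMonoidHom, MulAut.conj_apply, inv_inv] at h1
  simpa [mul_assoc] using h1

/-- A map onto an aligned `Q` extends, up to the stabiliser of `P`, to `N_S(R) ∩ N_S(P₁)`. -/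
theorem extend_to_aligned (hS : IsPGroup p S) {P₁ R P Q : Subgroup Ω} (hQ : F.IsReceptive Q)
    (hal : Aligned F p P Q) {γ : R →* Ω} (hγ : γ ∈ F.Hom R) (hr : γ.range = Q)
    (hγP : ∀ x : R, (x : Ω) ∈ P₁ ↔ γ x ∈ P) :
    ∃ b ∈ F.autGroup Q ⊓ preserve P Q, ∃ ξ ∈ F.Hom (normalizerIn S R ⊓ normalizerIn S P₁),
      ∀ (x : R) (hx : (x : Ω) ∈ normalizerIn S R ⊓ normalizerIn S P₁) (hy : γ x ∈ Q),
        ξ ⟨x, hx⟩ = (b ⟨γ x, hy⟩ : Q) := by
  have hR := src_le hγ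
  haveI := finite_sub hR
  set D := normalizerIn S R ⊓ normalizerIn S P₁
  have hDS : D ≤ S := inf_le_left.trans (normalizerIn_le R)
  have hTA : (autInducedBy D R).map (MulAut.congr (homEquiv hγ hr)).toMonoidHom ≤
      F.autGroup Q ⊓ preserve P Q := by
    rintro _ ⟨α, hα, rfl⟩
    obtain ⟨g, hg, he⟩ := mem_autInducedBy.1 hα
    refine ⟨congr_mem_autGroup hγ hr
      (autInducedBy_le_autGroup F hR (mem_autInducedBy.2 ⟨g, hDS hg, he⟩)), fun y => ?_⟩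
    obtain ⟨x, rfl⟩ := (homEquiv hγ hr).surjective y
    show γ x ∈ P ↔ ((homEquiv hγ hr (α ((homEquiv hγ hr).symm (homEquiv hγ hr x))) : Q) : Ω) ∈ P
    rw [MulEquiv.symm_apply_apply, homEquiv_coe, ← hγP, ← hγP, he]
    exact Subgroup.mem_normalizer_iff.1 hg.2.2 x
  obtain ⟨b, hb, hconj⟩ := hal.2 _ hTA ((isPGroup_autInducedBy_of_le hS hDS R).map _)
  obtain ⟨τ, hτ, hτQ, hτb⟩ := exists_hom_of_aut hQ.1 hb.1
  obtain ⟨φ', hφ', hφ'e⟩ := exists_comp hγ hτ fun x => hr.le ⟨x, rfl⟩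
  have hval : ∀ x : R, φ' x = (b (homEquiv hγ hr x) : Q) := fun x => by rw [hφ'e, hτb]; rfl
  haveI := finite_sub hQ.1
  have hφ'Q : φ'.range = Q :=
    range_eq_of_mem hφ' (fun x => by rw [hval]; exact SetLike.coe_mem _) (isConj_card ⟨γ, hγ, hr⟩).le
  have hD : D ≤ extender S R φ' := by
    intro g hg
    have hgα : (R.normalizerMonoidHom ⟨g, hg.1.2⟩ : MulAut R) ∈ autInducedBy D R :=
      mem_autInducedBy.2 ⟨g, hg, fun _ => rfl⟩
    obtain ⟨h, hh, he⟩ := mem_autInducedBy.1 (hconj _ ⟨_, hgα, rfl⟩)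
    refine mem_extender_of hg.1 hh fun x hx => ?_
    rw [hval, hval, ← he (b (homEquiv hγ hr x))]
    congr 1
    simp only [MulAut.mul_apply, MulAut.inv_apply_self]
    congr 1
    show _ = homEquiv hγ hr (R.normalizerMonoidHom ⟨g, hg.1.2⟩ ((homEquiv hγ hr).symm (homEquiv hγ hr x)))
    rw [MulEquiv.symm_apply_apply]
    rfl
  obtain ⟨ξ₀, hξ₀, he₀⟩ := hQ.2 R φ' hφ' hφ'Q
  obtain ⟨ξ, hξ, heξ⟩ := exists_restrict hξ₀ hD
  refine ⟨b, hb, ξ, hξ, fun x hx hy => ?_⟩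
  rw [heξ, he₀ x x.2, hval]
  rfl

/-- a map of the system on `N_S(P₁)` carrying `P₁` to `P₂` -/
def Full (F : FusionSystem S) (P₁ P₂ : Subgroup Ω) : Prop :=
  ∃ θ ∈ F.Hom (normalizerIn S P₁), (P₁.subgroupOf (normalizerIn S P₁)).map θ = P₂

/-- `P₁` and `P₂` map fully to a common subgroup -/
def Join (F : FusionSystem S) (P₁ P₂ : Subgroup Ω) : Prop :=
  ∃ C, Full F P₁ C ∧ Full F P₂ C

theorem map_eq_iff {P₁ P₂ N : Subgroup Ω} (h : P₁ ≤ N) {θ : N →* Ω} (hθ : θ ∈ F.Hom N) :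
    (P₁.subgroupOf N).map θ = P₂ ↔ (∀ x : N, (x : Ω) ∈ P₁ ↔ θ x ∈ P₂) ∧ P₂ ≤ θ.range := by
  constructor
  · rintro rfl
    refine ⟨fun x => ⟨fun hx => ⟨x, hx, rfl⟩, ?_⟩, Subgroup.map_le_range _ _⟩
    rintro ⟨y, hy, hxy⟩
    rw [← F.injective_of_mem hθ hxy]; exact hy
  · rintro ⟨h1, h2⟩
    ext y
    constructor
    · rintro ⟨x, hx, rfl⟩; exact (h1 x).1 hx
    · intro hy
      obtain ⟨x, rfl⟩ := h2 hy
      exact ⟨x, (h1 x).2 hy, rfl⟩

theorem Full.le_left {P₁ P₂ : Subgroup Ω} (h : Full F P₁ P₂) (hP : P₁ ≤ S) : F.IsConj P₁ P₂ := by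
  obtain ⟨θ, hθ, he⟩ := h
  obtain ⟨φ, hφ, hφe⟩ := exists_restrict hθ (le_normalizerIn hP)
  refine ⟨φ, hφ, ?_⟩
  ext y
  rw [← he]
  constructor
  · rintro ⟨x, rfl⟩; rw [hφe]; exact ⟨_, x.2, rfl⟩
  · rintro ⟨x, hx, rfl⟩; exact ⟨⟨x, hx⟩, hφe _⟩

theorem full_refl {P : Subgroup Ω} (hP : P ≤ S) : Full F P P := by
  refine ⟨(normalizerIn S P).subtype, subtype_mem F (normalizerIn_le P), ?_⟩
  exact Subgroup.map_subgroupOf_eq_of_le (le_normalizerIn hP)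

theorem apply_mem_normalizer {P₁ P₂ : Subgroup Ω} (hP : P₁ ≤ S) {θ : normalizerIn S P₁ →* Ω}
    (hθ : θ ∈ F.Hom (normalizerIn S P₁)) (he : (P₁.subgroupOf (normalizerIn S P₁)).map θ = P₂)
    (x : normalizerIn S P₁) : θ x ∈ normalizerIn S P₂ :=
  apply_mem_normalizerIn hθ (le_normalizerIn hP) he x x.2.2

theorem Full.trans {P₁ P₂ P₃ : Subgroup Ω} (hP : P₁ ≤ S) (h : Full F P₁ P₂) (h' : Full F P₂ P₃) :
    Full F P₁ P₃ := by
  obtain ⟨θ, hθ, he⟩ := h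
  obtain ⟨θ', hθ', he'⟩ := h'
  obtain ⟨τ, hτ, hτe⟩ := exists_comp hθ hθ' (apply_mem_normalizer hP hθ he)
  refine ⟨τ, hτ, ?_⟩
  ext y
  rw [← he']
  constructor
  · rintro ⟨x, hx, rfl⟩
    exact ⟨_, Subgroup.mem_subgroupOf.2 (he.le ⟨x, hx, rfl⟩), (hτe x).symm⟩
  · rintro ⟨z, hz, rfl⟩
    obtain ⟨x, hx, hxz⟩ := he.ge (Subgroup.mem_subgroupOf.1 hz)
    exact ⟨x, hx, (hτe x).trans (congrArg θ' (Subtype.ext hxz))⟩

theorem Full.card_le {P₁ P₂ : Subgroup Ω} (hP : P₁ ≤ S) (h : Full F P₁ P₂) :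
    Nat.card (normalizerIn S P₁) ≤ Nat.card (normalizerIn S P₂) := by
  obtain ⟨θ, hθ, he⟩ := h
  haveI := finite_sub (normalizerIn_le (S := S) P₂)
  exact card_le_of_hom hθ (apply_mem_normalizer hP hθ he)

/-- A full map is inverted when the target normalizer is no larger. -/
theorem Full.symm {P₁ P₂ : Subgroup Ω} (hP : P₁ ≤ S) (h : Full F P₁ P₂)
    (hcard : Nat.card (normalizerIn S P₂) ≤ Nat.card (normalizerIn S P₁)) : Full F P₂ P₁ := by
  obtain ⟨θ, hθ, he⟩ := h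
  haveI := finite_sub (normalizerIn_le (S := S) P₂)
  have hr : θ.range = normalizerIn S P₂ := range_eq_of_mem hθ (apply_mem_normalizer hP hθ he) hcard
  obtain ⟨η, hη, hηr, hηθ, -⟩ := exists_inv hθ hr
  refine ⟨η, hη, ?_⟩
  ext y
  constructor
  · rintro ⟨z, hz, rfl⟩
    obtain ⟨x, hx, hxz⟩ := he.ge (Subgroup.mem_subgroupOf.1 hz)
    rw [show z = ⟨θ x, hr.le ⟨x, rfl⟩⟩ from Subtype.ext hxz.symm, hηθ]
    exact hx
  · intro hy
    set x : normalizerIn S P₁ := ⟨y, le_normalizerIn hP hy⟩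
    exact ⟨⟨θ x, hr.le ⟨x, rfl⟩⟩, Subgroup.mem_subgroupOf.2 (he.le ⟨x, hy, rfl⟩), hηθ x _⟩

/-- A step between `P₁` and `P₂`: a map on `R`, `P₁ < R ≤ N_S(P₁)`, carrying `P₁` to `P₂`. -/
theorem join_of_step (hS : IsPGroup p S) {n : ℕ}
    (hbig : ∀ R : Subgroup Ω, R ≤ S → n < Nat.card R → ∃ Q, F.IsConj R Q ∧ Good F p Q)
    {P₁ P₂ R : Subgroup Ω} {ψ : R →* Ω} (hψ : ψ ∈ F.Hom R) (hn : Nat.card P₁ = n) (hPR : P₁ ≤ R)
    (hRN : R ≤ normalizerIn S P₁) (hlt : P₁ < R) (he : (P₁.subgroupOf R).map ψ = P₂) :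
    Join F P₁ P₂ := by
  suffices key : ∀ (d : ℕ) (P₁ P₂ R : Subgroup Ω) (ψ : R →* Ω), ψ ∈ F.Hom R → Nat.card P₁ = n →
      R ≤ normalizerIn S P₁ → P₁ < R → (P₁.subgroupOf R).map ψ = P₂ →
      Nat.card S - Nat.card R ≤ d → Join F P₁ P₂ from
    key _ P₁ P₂ R ψ hψ hn hRN hlt he le_rfl
  intro d
  induction d using Nat.strong_induction_on with
  | _ d ih =>
    intro P₁ P₂ R ψ hψ hn hRN hlt he hd
    have hR := src_le hψ
    have hP₁ : P₁ ≤ S := hlt.le.trans hR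
    haveI := finite_sub hR
    haveI := finite_sub hP₁
    have hP₂ : P₂ ≤ S := by rw [← he]; rintro _ ⟨x, -, rfl⟩; exact apply_mem hψ x
    haveI := finite_sub hP₂
    have hcard₂ : Nat.card P₂ = n := by
      rw [← he, Subgroup.card_map_of_injective (F.injective_of_mem hψ),
        Nat.card_congr (Subgroup.subgroupOfEquivOfLe hlt.le).toEquiv, hn]
    obtain ⟨hiff, -⟩ := (map_eq_iff hlt.le hψ).1 he
    haveI := finite_sub (normalizerIn_le (S := S) P₁)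
    rcases eq_or_lt_of_le hRN with rfl | hRN'
    · exact ⟨P₂, ⟨ψ, hψ, he⟩, full_refl hP₂⟩
    set R' := ψ.range with hR'
    have hR'S : R' ≤ S := range_le_base hψ
    have hR'N : R' ≤ normalizerIn S P₂ := by
      rintro _ ⟨x, rfl⟩
      exact apply_mem_normalizerIn hψ hlt.le he x (hRN x.2).2
    have hP₂R' : P₂ ≤ R' := he.ge.trans (Subgroup.map_le_range _ _)
    obtain ⟨η, hη, hηr, hηl, -⟩ := exists_inv hψ hR'.symm
    have hη' : ∀ y : R', (y : Ω) ∈ P₂ ↔ η y ∈ P₁ := by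
      rintro ⟨_, x, rfl⟩
      rw [hηl x ⟨x, rfl⟩]
      exact (hiff x).symm
    rcases eq_or_lt_of_le hR'N with hR'eq | hR'N'
    · refine ⟨P₁, full_refl hP₁, ?_⟩
      rw [Full, ← hR'eq]
      refine ⟨η, hη, (map_eq_iff hP₂R' hη).2 ⟨hη', ?_⟩⟩
      rw [hηr]; exact hlt.le
    -- refine through an aligned conjugate of `R`
    have hcR : n < Nat.card R := by
      rw [← hn]; exact lt_of_not_ge fun h => hlt.ne (Subgroup.eq_of_le_of_card_ge hlt.le h)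
    obtain ⟨Q, ⟨γ₀, hγ₀, hγ₀r⟩, hQa, hQr⟩ := hbig R hR hcR
    haveI := finite_sub hQa.1
    set P₀ := (P₁.subgroupOf R).map γ₀
    have hP₀Q : P₀ ≤ Q := (Subgroup.map_le_range _ _).trans hγ₀r.le
    obtain ⟨a, ha, P, hal, hmem⟩ := exists_aligned hQa hP₀Q
    obtain ⟨τ, hτ, hτr, hτa⟩ := exists_hom_of_aut hQa.1 ha
    obtain ⟨γ, hγ, hγe⟩ := exists_comp hγ₀ hτ fun x => hγ₀r.le ⟨x, rfl⟩
    have hγr : γ.range = Q := range_eq_of_mem hγ
      (fun x => by rw [hγe, hτa]; exact SetLike.coe_mem _) (isConj_card ⟨γ₀, hγ₀, hγ₀r⟩).le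
    have hγP : ∀ x : R, (x : Ω) ∈ P₁ ↔ γ x ∈ P := by
      intro x
      rw [hγe, hτa, ← hmem]
      exact ((map_eq_iff hlt.le hγ₀).1 rfl).1 x
    obtain ⟨γ', hγ', hγ'e⟩ := exists_comp hη hγ fun y => hηr.le ⟨y, rfl⟩
    have hγ'r : γ'.range = Q := range_eq_of_mem hγ' (fun y => by rw [hγ'e]; exact hγr.le ⟨_, rfl⟩)
      (by rw [isConj_card ⟨γ, hγ, hγr⟩, card_range hψ])
    have hγ'P : ∀ y : R', (y : Ω) ∈ P₂ ↔ γ' y ∈ P := by
      intro y; rw [hγ'e, hη' y]; exact hγP ⟨η y, hηr.le ⟨y, rfl⟩⟩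
    have hcardQ : Nat.card P = n := by
      have h1 : (P₁.subgroupOf R).map γ = P := (map_eq_iff hlt.le hγ).2
        ⟨hγP, hal.1.trans hγr.ge⟩
      rw [← h1, Subgroup.card_map_of_injective (F.injective_of_mem hγ),
        Nat.card_congr (Subgroup.subgroupOfEquivOfLe hlt.le).toEquiv, hn]
    have half : ∀ {A V : Subgroup Ω} {δ : V →* Ω}, δ ∈ F.Hom V → δ.range = Q → A < V →
        V < normalizerIn S A → Nat.card V = Nat.card R → Nat.card A = n →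
        (∀ x : V, (x : Ω) ∈ A ↔ δ x ∈ P) →
        Join F A P ∧ ∃ W : Subgroup Ω, Nat.card R < Nat.card W ∧ W ≤ normalizerIn S P := by
      intro A V δ hδ hδr hAV hVN hVc hAn hiffA
      set D := normalizerIn S V ⊓ normalizerIn S A with hD
      obtain ⟨b, hb, ξ, hξ, hξe⟩ : ∃ b ∈ F.autGroup Q ⊓ preserve P Q, ∃ ξ ∈ F.Hom D,
          ∀ (x : V) (hx : (x : Ω) ∈ D) (hy : δ x ∈ Q), ξ ⟨x, hx⟩ = (b ⟨δ x, hy⟩ : Q) :=
        extend_to_aligned hS hQr hal hδ hδr hiffA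
      haveI := finite_sub (src_le hξ)
      haveI := finite_sub (normalizerIn_le (S := S) A)
      have hVD : V ≤ D := le_inf (le_normalizerIn (src_le hδ)) hVN.le
      have hlt' : Nat.card R < Nat.card D := by
        rw [← hVc]
        refine lt_of_le_of_ne (Subgroup.card_le_of_le hVD) fun h => ?_
        have h1 := FusionP3.Induction.lt_normalizerIn (S := normalizerIn S A)
          (hS.to_le (normalizerIn_le A)) (P := V) hVN
        refine h1.not_ge (le_trans ?_ (Subgroup.eq_of_le_of_card_ge hVD h.ge).ge)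
        exact fun g hg => ⟨⟨hg.1.1, hg.2⟩, hg.1⟩
      have hδQ : ∀ x : V, δ x ∈ Q := fun x => hδr.le ⟨x, rfl⟩
      have hξA : (A.subgroupOf D).map ξ = P := by
        refine (map_eq_iff (hAV.le.trans hVD) hξ).2 ⟨fun x => ⟨fun hx => ?_, fun hx => ?_⟩, fun y hy => ?_⟩
        · rw [show x = ⟨((⟨x, hAV.le hx⟩ : V) : Ω), x.2⟩ from rfl, hξe ⟨x, hAV.le hx⟩ _ (hδQ _)]
          exact (hb.2 _).1 ((hiffA _).1 hx)
        · obtain ⟨v, hv⟩ := hδr.ge (b⁻¹ ⟨_, hal.1 hx⟩ : Q).2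
          have h1 : ξ ⟨v, hVD v.2⟩ = ξ x := by
            rw [hξe v _ (hδQ v), show (⟨δ v, hδQ v⟩ : Q) = b⁻¹ ⟨_, hal.1 hx⟩ from Subtype.ext hv,
              MulAut.apply_inv_self]
          rw [← F.injective_of_mem hξ h1]
          refine (hiffA v).2 ((hb.2 ⟨δ v, hδQ v⟩).2 ?_)
          rw [← hξe v (hVD v.2), h1]; exact hx
        · obtain ⟨v, hv⟩ := hδr.ge (b⁻¹ ⟨y, hal.1 hy⟩ : Q).2
          refine ⟨⟨v, hVD v.2⟩, ?_⟩
          rw [hξe v _ (hδQ v), show (⟨δ v, hδQ v⟩ : Q) = b⁻¹ ⟨y, hal.1 hy⟩ from Subtype.ext hv,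
            MulAut.apply_inv_self]
      refine ⟨ih (Nat.card S - Nat.card D) ?_ A P D ξ hξ hAn inf_le_right (hAV.trans_le hVD) hξA le_rfl,
        ξ.range, ?_, ?_⟩
      · have := Subgroup.card_le_of_le (src_le hξ)
        omega
      · rw [card_range hξ]; exact hlt'
      · rintro _ ⟨x, rfl⟩
        exact apply_mem_normalizerIn hξ (hAV.le.trans hVD) hξA x x.2.2.2
    obtain ⟨⟨C₁, hA₁, hP₁C⟩, W, hW, hWN⟩ := half hγ hγr hlt hRN' rfl hn hγP
    obtain ⟨⟨C₂, hA₂, hP₂C⟩, -⟩ := half hγ' hγ'r (lt_of_le_of_ne hP₂R' fun h => by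
      have h1 := congrArg (fun X : Subgroup Ω => Nat.card X) h
      simp only [hR', card_range hψ, hcard₂] at h1
      omega) hR'N' (card_range hψ) hcard₂ hγ'P
    -- a step between the two tops
    have hPS : P ≤ S := hal.1.trans hQa.1
    obtain ⟨θ₁, hθ₁, he₁⟩ := hP₁C
    obtain ⟨θ₂, hθ₂, he₂⟩ := hP₂C
    obtain ⟨η₁, hη₁, hη₁r, hη₁l, -⟩ := exists_inv hθ₁ rfl
    obtain ⟨χ, hχ, hχe⟩ := exists_comp hη₁ hθ₂ fun y => hη₁r.le ⟨y, rfl⟩
    haveI := finite_sub (normalizerIn_le (S := S) P)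
    have hC₁ : C₁ ≤ S := isConj_le_right (Full.le_left (F := F) (P₂ := C₁) ⟨θ₁, hθ₁, he₁⟩ hPS)
    haveI := finite_sub hC₁
    have hC₁r : C₁ ≤ θ₁.range := he₁.ge.trans (Subgroup.map_le_range _ _)
    have hcC₁ : Nat.card C₁ = n :=
      (isConj_card (Full.le_left (F := F) (P₂ := C₁) ⟨θ₁, hθ₁, he₁⟩ hPS)).trans hcardQ
    have hbigger : Nat.card R < Nat.card θ₁.range := by
      rw [card_range hθ₁]
      exact hW.trans_le (Subgroup.card_le_of_le hWN)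
    obtain ⟨C, hC₁C, hC₂C⟩ := ih (Nat.card S - Nat.card θ₁.range) (by
        have := Subgroup.card_le_of_le (range_le_base hθ₁)
        omega) C₁ C₂ θ₁.range χ hχ hcC₁
      (by rintro _ ⟨x, rfl⟩; exact apply_mem_normalizer hPS hθ₁ he₁ x)
      (lt_of_le_of_ne hC₁r fun h => by
        have h1 := congrArg (fun X : Subgroup Ω => Nat.card X) h
        simp only [hcC₁] at h1
        omega)
      ((map_eq_iff hC₁r hχ).2 ⟨by
        rintro ⟨_, x, rfl⟩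
        rw [hχe]
        rw [show (⟨η₁ ⟨θ₁ x, x, rfl⟩, hη₁r.le ⟨_, rfl⟩⟩ : normalizerIn S P) = x from
          Subtype.ext (hη₁l x _)]
        exact (((map_eq_iff (le_normalizerIn hPS) hθ₁).1 he₁).1 x).symm.trans
          (((map_eq_iff (le_normalizerIn hPS) hθ₂).1 he₂).1 x), fun y hy => by
        obtain ⟨x, hx⟩ := ((map_eq_iff (le_normalizerIn hPS) hθ₂).1 he₂).2 hy
        refine ⟨⟨θ₁ x, x, rfl⟩, ?_⟩
        rw [hχe, ← hx]
        exact congrArg θ₂ (Subtype.ext (hη₁l x _))⟩) le_rfl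
    exact ⟨C, hA₁.trans hP₁ hC₁C, hA₂.trans hP₂ hC₂C⟩

end Cfsg.Agent.Lib.FusionP3.Criterion
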