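import Cfsg.Agent.Lib.FusionP3.Criterion.Radical

/-!
A conjugacy class below the good ones: a fully normalized member `P` that is strictly contained in `top P`,
with `top P` good and aligned, and the automorphisms of `P` that extend to `top P`.
-/

set_option autoImplicit false
set_option linter.style.haveILetI false
set_option linter.unusedSectionVars false

namespace Cfsg.Agent.Lib.FusionP3.Criterion

open Cfsg Cfsg.FusionSystem Cfsg.Agent.Lib.FS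
open Cfsg.Agent.Lib.FusionP3.GT

variable {Ω : Type*} [Group Ω] {S : Subgroup Ω} [Finite S] {p : ℕ} [Fact p.Prime] {F : FusionSystem S}

/-- A subgroup catching all `p`-subgroups up to conjugacy is a Sylow subgroup. -/
theorem exists_sylow_of_catches {G : Type*} [Group G] {A U : Subgroup G} [Finite A] (hU : U ≤ A)
    (hUp : IsPGroup p U)
    (h : ∀ T : Subgroup G, T ≤ A → IsPGroup p T → ∃ a : G, ∀ t ∈ T, a * t * a⁻¹ ∈ U) :
    ∃ R : Sylow p A, (R : Subgroup A) = U.subgroupOf A := by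
  obtain ⟨R, hR⟩ := (hUp.of_equiv (Subgroup.subgroupOfEquivOfLe hU).symm).exists_le_sylow
  refine ⟨R, (Subgroup.eq_of_le_of_card_ge hR ?_).symm⟩
  obtain ⟨a, ha⟩ := h ((R : Subgroup A).map A.subtype) (Subgroup.map_subtype_le _) (R.isPGroup'.map _)
  rw [Nat.card_congr (Subgroup.subgroupOfEquivOfLe hU).toEquiv]
  haveI : Finite U := Finite.of_injective (Subgroup.inclusion hU) (Subgroup.inclusion_injective hU)
  exact Nat.card_le_card_of_injective (fun r : (R : Subgroup A) => (⟨a * ((r : A) : G) * a⁻¹, ha _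
    ⟨_, r.2, rfl⟩⟩ : U)) fun r r' e => Subtype.ext (Subtype.ext
      (mul_left_cancel (mul_right_cancel (congrArg Subtype.val e : a * ((r : A) : G) * a⁻¹ = a * ((r' : A) : G) * a⁻¹))))

theorem normalizerIn_le_normalizer_top {P : Subgroup Ω} (hP : P ≤ S) :
    normalizerIn S P ≤ Subgroup.normalizer (top F p P : Set Ω) := by
  intro g hg
  haveI := finite_sub ((top_le (F := F) (p := p) P).trans (normalizerIn_le P))
  refine mem_normalizer_of_conj_mem fun h hh => ?_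
  obtain ⟨hhN, w, hw, hwe⟩ := hh
  set c : MulAut P := P.normalizerMonoidHom ⟨g, hg.2⟩ with hc
  refine ⟨mul_mem (mul_mem hg hhN) (inv_mem hg), c * w * c⁻¹, conj_mem_opAut (autInducedBy_le_autGroup F hP
    (mem_autInducedBy.2 ⟨g, hg.1, fun _ => rfl⟩)) hw, fun x => ?_⟩
  obtain ⟨y, rfl⟩ := c.surjective x
  rw [MulAut.mul_apply, MulAut.mul_apply, MulAut.inv_apply_self]
  show g * ((w y : P) : Ω) * g⁻¹ = _
  rw [hwe, show ((c y : P) : Ω) = g * (y : Ω) * g⁻¹ from rfl]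
  group

/-- An isomorphism onto `P` that is the restriction of a map on `N_S(A)`. -/
def FullEquiv (F : FusionSystem S) {A P : Subgroup Ω} (e : A ≃* P) : Prop :=
  ∃ θ ∈ F.Hom (normalizerIn S A), ∀ (x : A) (hx : (x : Ω) ∈ normalizerIn S A), θ ⟨x, hx⟩ = e x

theorem exists_fullEquiv {A P : Subgroup Ω} (hA : A ≤ S) (h : Full F A P) :
    ∃ e : A ≃* P, FullEquiv F e := by
  obtain ⟨θ, hθ, he⟩ := h
  obtain ⟨φ, hφ, hφe⟩ := exists_restrict hθ (le_normalizerIn hA)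
  have hr : φ.range = P := by
    ext y
    rw [← he]
    constructor
    · rintro ⟨x, rfl⟩; rw [hφe]; exact ⟨_, x.2, rfl⟩
    · rintro ⟨x, hx, rfl⟩; exact ⟨⟨x, hx⟩, hφe _⟩
  exact ⟨homEquiv hφ hr, θ, hθ, fun x _ => (hφe x).symm⟩

theorem map_eq_of_equiv {A B D : Subgroup Ω} (h : A ≤ D) {θ : D →* Ω} (e : A ≃* B)
    (he : ∀ (x : A) (hx : (x : Ω) ∈ D), θ ⟨x, hx⟩ = e x) : (A.subgroupOf D).map θ = B := by
  ext y
  constructor
  · rintro ⟨x, hx, rfl⟩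
    rw [show x = ⟨((⟨x, hx⟩ : A) : Ω), x.2⟩ from rfl, he]
    exact SetLike.coe_mem _
  · intro hy
    refine ⟨⟨(e.symm ⟨y, hy⟩ : A), h (SetLike.coe_mem _)⟩, (e.symm ⟨y, hy⟩).2, ?_⟩
    rw [he, e.apply_symm_apply]

/-- What is known about the class of a subgroup `P` outside the family when all larger subgroups are good. -/
structure Setup (F : FusionSystem S) (p n : ℕ) (ℋ : Set (Subgroup Ω)) (P : Subgroup Ω) : Prop where
  pGroup : IsPGroup p S
  conj : ∀ P ∈ ℋ, ∀ Q, F.IsConj P Q → Q ∈ ℋ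
  gen : ∀ E : FusionSystem S, (∀ P ∈ ℋ, F.Hom P ⊆ E.Hom P) → F ≤ E
  lt_card : n < Nat.card S
  big : ∀ R : Subgroup Ω, R ≤ S → n < Nat.card R → ∃ Q, F.IsConj R Q ∧ Good F p Q
  notMem : P ∉ ℋ
  card_eq : Nat.card P = n
  fn : F.IsFullyNormalized P
  lt_top : P < top F p P
  good : Good F p (top F p P)
  aligned : Aligned F p P (top F p P)

variable {n : ℕ} {ℋ : Set (Subgroup Ω)} {P : Subgroup Ω}

theorem Setup.le (h : Setup F p n ℋ P) : P ≤ S := h.fn.1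

theorem Setup.notMem_of_isConj (h : Setup F p n ℋ P) {A : Subgroup Ω} (hA : F.IsConj A P) : A ∉ ℋ :=
  fun hm => h.notMem (h.conj A hm P hA)

theorem Setup.full (h : Setup F p n ℋ P) {A : Subgroup Ω} (hA : F.IsConj A P) : Full F A P :=
  full_to_top h.pGroup h.conj h.gen h.lt_card h.big (h.notMem_of_isConj hA)
    ((isConj_card hA).symm.trans h.card_eq) hA h.fn

/-- the automorphisms of `P` extending to `top P` -/
def extAut (F : FusionSystem S) (P T : Subgroup Ω) (hPT : P ≤ T) : Subgroup (MulAut P) :=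
  ((F.autGroup T).subgroupOf (preserve P T)).map (res hPT)

theorem Setup.mem_extAut (h : Setup F p n ℋ P) {R : Subgroup Ω} (hR : top F p P ≤ R) {ψ : R →* Ω}
    (hψ : ψ ∈ F.Hom R) {a : MulAut P} (ha : ∀ (x : P) (hx : (x : Ω) ∈ R), ψ ⟨x, hx⟩ = a x) :
    a ∈ extAut F P (top F p P) h.lt_top.le := by
  obtain ⟨χ, hχ, hχe⟩ := exists_restrict hψ hR
  have hmap : (P.subgroupOf R).map ψ = P := map_eq_of_equiv (h.lt_top.le.trans hR) a ha
  have hTN : top F p P ≤ normalizerIn S P := top_le P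
  haveI := finite_sub (hTN.trans (normalizerIn_le P))
  have hm : ∀ x, χ x ∈ top F p P := fun x => by
    rw [hχe]
    exact (apply_mem_top_iff (h.lt_top.le.trans hR) hψ hmap _ (hTN x.2).2).2 x.2
  have hr : χ.range = top F p P := range_eq_of_mem hχ hm le_rfl
  have hpres : (homEquiv hχ hr : MulAut (top F p P)) ∈ preserve P (top F p P) := by
    intro x
    rw [homEquiv_coe, hχe]
    exact ((map_eq_iff (h.lt_top.le.trans hR) hψ).1 hmap).1 ⟨x, hR x.2⟩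
  refine ⟨⟨homEquiv hχ hr, hpres⟩, homEquiv_mem_autGroup hχ hr, MulEquiv.ext fun x => Subtype.ext ?_⟩
  rw [res_coe, homEquiv_coe, hχe]
  exact ha x _

/-- The setting exists in every class outside the family. -/
theorem exists_setup (hS : IsPGroup p S) (hconj : ∀ P ∈ ℋ, ∀ Q, F.IsConj P Q → Q ∈ ℋ)
    (hgen : ∀ E : FusionSystem S, (∀ P ∈ ℋ, F.Hom P ⊆ E.Hom P) → F ≤ E) (hn' : n < Nat.card S)
    (hbig : ∀ R : Subgroup Ω, R ≤ S → n < Nat.card R → ∃ Q, F.IsConj R Q ∧ Good F p Q)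
    (hstar : ∀ P : Subgroup Ω, F.IsCentric P → P ∉ ℋ → ∃ Q, F.IsConj P Q ∧
      ¬ (autInducedBy S Q ⊓ (pCore p ↥(F.autGroup Q)).map (F.autGroup Q).subtype ≤ Inn Q))
    {A : Subgroup Ω} (hAS : A ≤ S) (hA : A ∉ ℋ) (hn : Nat.card A = n) :
    ∃ P, F.IsConj A P ∧ Setup F p n ℋ P := by
  -- some conjugate is properly contained in its `top`
  obtain ⟨Q, hAQ, g, hgN, hgT, hgQ⟩ : ∃ Q, F.IsConj A Q ∧ ∃ g, g ∈ normalizerIn S Q ∧ g ∈ top F p Q ∧ g ∉ Q := by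
    by_cases hc : F.IsCentric A
    · obtain ⟨Q, hAQ, hQ⟩ := hstar A hc hA
      obtain ⟨α, ⟨hαi, hαo⟩, hαn⟩ := SetLike.not_le_iff_exists.1 hQ
      obtain ⟨g, hg, hge⟩ := mem_autInducedBy.1 hαi
      refine ⟨Q, hAQ, g, ⟨hg, mem_normalizer_of_aut hge⟩,
        ⟨⟨hg, mem_normalizer_of_aut hge⟩, α, hαo, hge⟩, fun hgQ => hαn ?_⟩
      exact ⟨⟨g, hgQ⟩, MulEquiv.ext fun x => Subtype.ext (hge x).symm⟩
    · simp only [FusionSystem.IsCentric, not_and, not_forall] at hc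
      obtain ⟨Q, hAQ, hQ⟩ := hc hAS
      obtain ⟨g, hg, hgn⟩ := SetLike.not_le_iff_exists.1 hQ
      exact ⟨Q, hAQ, g, centralizerIn_le_normalizerIn Q hg, centralizerIn_le_top hg, hgn⟩
  have hQS := isConj_le_right hAQ
  have hQℋ : Q ∉ ℋ := fun h => hA (hconj Q h A (isConj_symm hAQ))
  obtain ⟨P₀, hQP₀, hP₀⟩ := exists_isFullyNormalized F hQS
  obtain ⟨θ, hθ, hθe⟩ := full_to_top hS hconj hgen hn' hbig hQℋ ((isConj_card hAQ).trans hn) hQP₀ hP₀
  have hlt₀ : P₀ < top F p P₀ := by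
    refine lt_of_le_of_ne (le_top' hS hP₀.1) fun h => ?_
    have hmem := (apply_mem_top_iff (le_normalizerIn hQS) hθ hθe ⟨g, hgN⟩ hgN.2).2 hgT
    rw [← h] at hmem
    exact hgQ ((((map_eq_iff (le_normalizerIn hQS) hθ).1 hθe).1 ⟨g, hgN⟩).2 hmem)
  -- move it so that `top` becomes good and aligned
  set T₀ := top F p P₀
  have hT₀N : T₀ ≤ normalizerIn S P₀ := top_le P₀
  have hT₀S := hT₀N.trans (normalizerIn_le P₀)
  haveI := finite_sub hT₀S
  have hcP₀ : Nat.card P₀ = n := (isConj_card (isConj_trans hAQ hQP₀)).trans hn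
  obtain ⟨T, ⟨γ₀, hγ₀, hγ₀r⟩, hTa, hTr⟩ := hbig T₀ hT₀S (by
    rw [← hcP₀]; exact lt_of_not_ge fun h => hlt₀.ne (Subgroup.eq_of_le_of_card_ge hlt₀.le h))
  haveI := finite_sub hTa.1
  obtain ⟨a, ha, P, hal, hmem⟩ := exists_aligned hTa
    ((Subgroup.map_le_range γ₀ (P₀.subgroupOf T₀)).trans hγ₀r.le)
  obtain ⟨τ, hτ, hτr, hτa⟩ := exists_hom_of_aut hTa.1 ha
  obtain ⟨γ, hγ, hγe⟩ := exists_comp hγ₀ hτ fun x => hγ₀r.le ⟨x, rfl⟩
  have hγr : γ.range = T := range_eq_of_mem hγ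
    (fun x => by rw [hγe, hτa]; exact SetLike.coe_mem _) (isConj_card ⟨γ₀, hγ₀, hγ₀r⟩).le
  have hγP : ∀ x : T₀, (x : Ω) ∈ P₀ ↔ γ x ∈ P := by
    intro x
    rw [hγe, hτa, ← hmem]
    exact ((map_eq_iff hlt₀.le hγ₀).1 rfl).1 x
  have hND : normalizerIn S P₀ ≤ normalizerIn S T₀ ⊓ normalizerIn S P₀ :=
    le_inf (fun g hg => ⟨hg.1, normalizerIn_le_normalizer_top hP₀.1 hg⟩) le_rfl
  obtain ⟨b, hb, ξ', hξ', hξe'⟩ := extend_to_aligned hS hTr hal hγ hγr hγP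
  obtain ⟨ξ, hξ, hξξ'⟩ := exists_restrict hξ' hND
  have hγT : ∀ x : T₀, γ x ∈ T := fun x => hγr.le ⟨x, rfl⟩
  have hξe : ∀ x : T₀, ξ ⟨x, hT₀N x.2⟩ = (b ⟨γ x, hγT x⟩ : T) := fun x =>
    (hξξ' _).trans (hξe' x _ _)
  have hξP : (P₀.subgroupOf (normalizerIn S P₀)).map ξ = P := by
    ext y
    constructor
    · rintro ⟨x, hx, rfl⟩
      rw [show x = ⟨((⟨x, hlt₀.le hx⟩ : T₀) : Ω), x.2⟩ from rfl, hξe ⟨x, hlt₀.le hx⟩]
      exact (hb.2 _).1 ((hγP ⟨x, hlt₀.le hx⟩).1 hx)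
    · intro hy
      obtain ⟨v, hv⟩ := hγr.ge (b⁻¹ ⟨y, hal.1 hy⟩ : T).2
      have hv' : (⟨γ v, hγT v⟩ : T) = b⁻¹ ⟨y, hal.1 hy⟩ := Subtype.ext hv
      refine ⟨⟨v, hT₀N v.2⟩, (hγP v).2 ((hb.2 ⟨γ v, hγT v⟩).2 ?_), ?_⟩
      · rw [hv', MulAut.apply_inv_self]; exact hy
      · rw [hξe, hv', MulAut.apply_inv_self]
  have hfull : Full F P₀ P := ⟨ξ, hξ, hξP⟩
  have hP : P ≤ S := hal.1.trans hTa.1
  have hPfn : F.IsFullyNormalized P := ⟨hP, fun R hR =>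
    (hP₀.2 R (isConj_trans (hfull.le_left hP₀.1) hR)).trans (hfull.card_le hP₀.1)⟩
  haveI := finite_sub (normalizerIn_le (S := S) P)
  have hξr : ξ.range = normalizerIn S P := range_eq_of_mem hξ (apply_mem_normalizer hP₀.1 hξ hξP)
    (hP₀.2 P (hfull.le_left hP₀.1))
  have htop : top F p P = T := by
    ext y
    constructor
    · intro hy
      obtain ⟨x, rfl⟩ := hξr.ge (top_le P hy)
      have hx := (apply_mem_top_iff (le_normalizerIn hP₀.1) hξ hξP x x.2.2).1 hy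
      rw [show x = ⟨((⟨x, hx⟩ : T₀) : Ω), x.2⟩ from rfl, hξe ⟨x, hx⟩]
      exact SetLike.coe_mem _
    · intro hy
      obtain ⟨v, hv⟩ := hγr.ge (b⁻¹ ⟨y, hy⟩ : T).2
      have h1 := (apply_mem_top_iff (le_normalizerIn hP₀.1) hξ hξP ⟨v, hT₀N v.2⟩ (hT₀N v.2).2).2 v.2
      rwa [hξe, show (⟨γ v, hγT v⟩ : T) = b⁻¹ ⟨y, hy⟩ from Subtype.ext hv, MulAut.apply_inv_self] at h1
  have hAP : F.IsConj A P := isConj_trans (isConj_trans hAQ hQP₀) (hfull.le_left hP₀.1)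
  refine ⟨P, hAP, hS, hconj, hgen, hn', hbig, fun h => hA (hconj P h A (isConj_symm hAP)),
    (isConj_card hAP).trans hn, hPfn, ?_, htop.symm ▸ ⟨hTa, hTr⟩, htop.symm ▸ hal⟩
  rw [htop]
  refine lt_of_le_of_ne hal.1 fun h => ?_
  have h1 := congrArg (fun X : Subgroup Ω => Nat.card X) h
  simp only [isConj_card ⟨γ, hγ, hγr⟩, isConj_card (hfull.le_left hP₀.1)] at h1
  exact hlt₀.ne (Subgroup.eq_of_le_of_card_ge hlt₀.le h1.ge)

end Cfsg.Agent.Lib.FusionP3.Criterion
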